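import Groth.Agent.LC.CohTorsion
import Groth.Agent.LC.Depth
import Mathlib

/-!
# Modules locally of rank one off the closed point, elementwise
-/

set_option autoImplicit false
set_option linter.style.haveILetI false
set_option linter.unusedSectionVars false

universe u

open IsLocalRing

namespace Groth.Agent.ParaRel

variable {A : Type u} [CommRing A] [IsLocalRing A]

/-- `M` is locally isomorphic to `A/I` off the closed point. -/
def LR (I : Ideal A) (M : Type u) [AddCommGroup M] [Module A M] : Prop :=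
  ∀ p : Ideal A, p.IsPrime → p ≠ maximalIdeal A → ∃ e : M,
    (∀ x : M, ∃ s ∉ p, ∃ a : A, s • x = a • e) ∧ ∀ a : A, a • e = 0 → ∃ s ∉ p, s * a ∈ I

/-- Bijective at every point off the closed point. -/
def LB {M N : Type u} [AddCommGroup M] [Module A M] [AddCommGroup N] [Module A N] (f : M →ₗ[A] N) : Prop :=
  ∀ p : Ideal A, p.IsPrime → p ≠ maximalIdeal A →
    (∀ x, f x = 0 → ∃ s ∉ p, s • x = 0) ∧ ∀ y, ∃ s ∉ p, s • y ∈ LinearMap.range f

/-- Every module locally isomorphic to `A/I` off the closed point maps to `A/I` locally bijectively. -/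
def Triv (I : Ideal A) : Prop :=
  ∀ (M : Type u) [AddCommGroup M] [Module A M] [Module.Finite A M],
    (∀ a ∈ I, ∀ x : M, a • x = 0) → LR I M → ∃ φ : M →ₗ[A] A ⧸ I, LB φ

theorem exists_uniform_smul {M : Type u} [AddCommGroup M] [Module A M] [Module.Finite A M]
    {p : Ideal A} (hp : p.IsPrime) (N : Submodule A M) (h : ∀ x, ∃ s ∉ p, s • x ∈ N) :
    ∃ s ∉ p, ∀ x, s • x ∈ N := by
  classical
  obtain ⟨G, hG⟩ := Module.Finite.fg_top (R := A) (M := M)
  choose s hs hsx using h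
  refine ⟨∏ x ∈ G, s x, fun hc => ?_, fun x => ?_⟩
  · obtain ⟨x, -, hx⟩ := hp.prod_mem_iff.1 hc
    exact hs x hx
  · have hx : x ∈ Submodule.span A (G : Set M) := hG ▸ Submodule.mem_top
    induction hx using Submodule.span_induction with
    | mem x hx =>
      obtain ⟨c, hc⟩ := Finset.dvd_prod_of_mem s hx
      rw [hc, mul_comm, mul_smul]
      exact N.smul_mem c (hsx x)
    | zero => rw [smul_zero]; exact N.zero_mem
    | add a b _ _ ha hb => rw [smul_add]; exact N.add_mem ha hb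
    | smul c a _ ha => rw [smul_comm]; exact N.smul_mem c ha

variable [IsNoetherianRing A]

theorem exists_uniform_ann {M : Type u} [AddCommGroup M] [Module A M] {p : Ideal A} (hp : p.IsPrime)
    (I : Ideal A) (e : M) (h : ∀ a : A, a • e = 0 → ∃ s ∉ p, s * a ∈ I) :
    ∃ t ∉ p, ∀ a : A, a • e = 0 → t * a ∈ I := by
  let J : Ideal A := LinearMap.ker (LinearMap.toSpanSingleton A M e)
  haveI : Module.Finite A J := Module.Finite.iff_fg.2 (IsNoetherian.noetherian J)
  obtain ⟨t, ht, htx⟩ := exists_uniform_smul (M := J) hp (Submodule.comap (Submodule.subtype J) I) fun x => by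
    obtain ⟨s, hs, hsa⟩ := h x.1 x.2
    exact ⟨s, hs, hsa⟩
  exact ⟨t, ht, fun a ha => htx ⟨a, ha⟩⟩

/-- The data of a local generator, with denominators cleared. -/
theorem exists_local {M : Type u} [AddCommGroup M] [Module A M] [Module.Finite A M] {I : Ideal A}
    (h : LR I M) {p : Ideal A} (hp : p.IsPrime) (hpm : p ≠ maximalIdeal A) :
    ∃ (e : M) (s : A), s ∉ p ∧ ∃ t : A, t ∉ p ∧ (∀ x, ∃ a : A, s • x = a • e) ∧
      ∀ a : A, a • e = 0 → t * a ∈ I := by
  obtain ⟨e, he, ha⟩ := h p hp hpm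
  obtain ⟨s, hs, hsx⟩ := exists_uniform_smul hp (Submodule.span A {e}) fun x => by
    obtain ⟨s, hs, a, hsa⟩ := he x
    exact ⟨s, hs, Submodule.mem_span_singleton.2 ⟨a, hsa.symm⟩⟩
  obtain ⟨t, ht, hta⟩ := exists_uniform_ann hp I e ha
  exact ⟨e, s, hs, t, ht, fun x => by
    obtain ⟨a, ha⟩ := Submodule.mem_span_singleton.1 (hsx x); exact ⟨a, ha.symm⟩, hta⟩

/-- A local generator of the dual. -/
theorem exists_dual_gen {M : Type u} [AddCommGroup M] [Module A M] [Module.Finite A M] {I : Ideal A}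
    (h : LR I M) {p : Ideal A} (hp : p.IsPrime) (hpm : p ≠ maximalIdeal A) :
    ∃ (e : M) (s t : A), s ∉ p ∧ t ∉ p ∧ (∀ x, ∃ a : A, s • x = a • e) ∧ (∀ a : A, a • e = 0 → t * a ∈ I) ∧
      ∃ α : M →ₗ[A] A ⧸ I, α e = Ideal.Quotient.mk I (s * t) ∧
        ∀ (f : M →ₗ[A] A ⧸ I) (c : A), f e = Ideal.Quotient.mk I c → (s * t) • f = c • α := by
  obtain ⟨e, s, hs, t, ht, hsx, hta⟩ := exists_local h hp hpm
  choose a ha using hsx
  have key : ∀ (x : M) (b : A), s • x = b • e → Ideal.Quotient.mk I (t * a x) = Ideal.Quotient.mk I (t * b) := by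
    intro x b hb
    rw [Ideal.Quotient.mk_eq_mk_iff_sub_mem, ← mul_sub]
    exact hta _ (by rw [sub_smul, ← ha, hb, sub_self])
  let α : M →ₗ[A] A ⧸ I :=
    { toFun := fun x => Ideal.Quotient.mk I (t * a x)
      map_add' := fun x y => by
        rw [key (x + y) (a x + a y) (by rw [smul_add, add_smul, ha, ha]), mul_add, map_add]
      map_smul' := fun c x => by
        rw [key (c • x) (c * a x) (by rw [smul_comm, ha, ← mul_smul]), RingHom.id_apply,
          mul_left_comm, map_mul]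
        rfl }
  have hαe : α e = Ideal.Quotient.mk I (s * t) := by
    show Ideal.Quotient.mk I (t * a e) = _
    rw [key e s rfl, mul_comm]
  refine ⟨e, s, t, hs, ht, fun x => ⟨a x, ha x⟩, hta, α, hαe, fun f c hc => LinearMap.ext fun x => ?_⟩
  show (s * t) • f x = c • Ideal.Quotient.mk I (t * a x)
  rw [mul_comm s t, mul_smul, ← map_smul f s, ha, map_smul, hc]
  show Ideal.Quotient.mk I (t * (a x * c)) = Ideal.Quotient.mk I (c * (t * a x))
  congr 1
  ring

/-- A map to `A/I` whose value at a local generator is a unit is bijective at the point. -/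
theorem bij_at {M : Type u} [AddCommGroup M] [Module A M] {I : Ideal A} (hI : ∀ a ∈ I, ∀ x : M, a • x = 0)
    {p : Ideal A} (hp : p.IsPrime) (e : M) (s : A) (hs : s ∉ p)
    (hsx : ∀ x, ∃ a : A, s • x = a • e)
    (f : M →ₗ[A] A ⧸ I) (c : A) (hc : f e = Ideal.Quotient.mk I c) (hcp : c ∉ p ∨ ¬ I ≤ p) :
    (∀ x, f x = 0 → ∃ r ∉ p, r • x = 0) ∧ ∀ y, ∃ r ∉ p, r • y ∈ LinearMap.range f := by
  rcases hcp with hcp | hcp
  · refine ⟨fun x hx => ?_, fun y => ?_⟩
    · obtain ⟨a, ha⟩ := hsx x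
      have h1 : c * a ∈ I := by
        rw [← Ideal.Quotient.eq_zero_iff_mem, mul_comm]
        show a • Ideal.Quotient.mk I c = 0
        rw [← hc, ← map_smul, ← ha, map_smul, hx, smul_zero]
      refine ⟨c * s, fun hm => (hp.mem_or_mem hm).elim hcp hs, ?_⟩
      rw [mul_smul, ha, ← mul_smul]
      exact hI _ h1 e
    · obtain ⟨b, rfl⟩ := Ideal.Quotient.mk_surjective y
      refine ⟨c, hcp, b • e, ?_⟩
      rw [map_smul, hc]
      show Ideal.Quotient.mk I (b * c) = Ideal.Quotient.mk I (c * b)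
      rw [mul_comm]
  · obtain ⟨r, hr, hrp⟩ := SetLike.not_le_iff_exists.1 hcp
    refine ⟨fun x _ => ⟨r, hrp, hI r hr x⟩, fun y => ⟨r, hrp, 0, ?_⟩⟩
    obtain ⟨b, rfl⟩ := Ideal.Quotient.mk_surjective y
    rw [map_zero]
    exact (Ideal.Quotient.eq_zero_iff_mem.2 (I.mul_mem_right b hr)).symm

/-- The quotient of `A` is killed by the ideal. -/
theorem smul_quot_eq_zero (I : Ideal A) {a : A} (ha : a ∈ I) (y : A ⧸ I) : a • y = 0 := by
  obtain ⟨b, rfl⟩ := Ideal.Quotient.mk_surjective y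
  exact Ideal.Quotient.eq_zero_iff_mem.2 (I.mul_mem_right b ha)

theorem smul_dual_eq_zero {M : Type u} [AddCommGroup M] [Module A M] (I : Ideal A) {a : A} (ha : a ∈ I)
    (f : M →ₗ[A] A ⧸ I) : a • f = 0 :=
  LinearMap.ext fun x => smul_quot_eq_zero I ha (f x)

/-- The dual is locally of rank one. -/
theorem lr_dual {M : Type u} [AddCommGroup M] [Module A M] [Module.Finite A M] {I : Ideal A} (h : LR I M) :
    LR I (M →ₗ[A] A ⧸ I) := fun p hp hpm => by
  obtain ⟨e, s, t, hs, ht, -, -, α, hαe, hα⟩ := exists_dual_gen h hp hpm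
  refine ⟨α, fun f => ?_, fun a ha => ⟨s * t, fun hm => (hp.mem_or_mem hm).elim hs ht, ?_⟩⟩
  · obtain ⟨c, hc⟩ := Ideal.Quotient.mk_surjective (f e)
    exact ⟨s * t, fun hm => (hp.mem_or_mem hm).elim hs ht, c, hα f c hc.symm⟩
  · rw [← Ideal.Quotient.eq_zero_iff_mem, mul_comm]
    show a • Ideal.Quotient.mk I (s * t) = 0
    rw [← hαe]
    exact LinearMap.congr_fun ha e

/-- Local rank one passes to quotients `M/JM`. -/
theorem lr_quot {M : Type u} [AddCommGroup M] [Module A M] [Module.Finite A M] {I J : Ideal A} (hIJ : I ≤ J)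
    (h : LR I M) : LR J (M ⧸ (J • ⊤ : Submodule A M)) := fun p hp hpm => by
  obtain ⟨e, s, hs, t, ht, hsx, hta⟩ := exists_local h hp hpm
  refine ⟨Submodule.Quotient.mk e, fun x => ?_, fun a ha => ⟨t * s, fun hm => (hp.mem_or_mem hm).elim ht hs, ?_⟩⟩
  · obtain ⟨x, rfl⟩ := Submodule.Quotient.mk_surjective _ x
    obtain ⟨b, hb⟩ := hsx x
    exact ⟨s, hs, b, by rw [← Submodule.Quotient.mk_smul, ← Submodule.Quotient.mk_smul, hb]⟩
  · rw [← Submodule.Quotient.mk_smul, Submodule.Quotient.mk_eq_zero] at ha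
    have hm : ∃ b ∈ J, s • (a • e) = b • e := by
      refine Submodule.smul_induction_on ha (fun j hj x _ => ?_) fun x y ⟨b, hb, hx⟩ ⟨b', hb', hy⟩ =>
        ⟨b + b', J.add_mem hb hb', by rw [smul_add, add_smul, hx, hy]⟩
      obtain ⟨b, hb⟩ := hsx x
      exact ⟨j * b, J.mul_mem_right b hj, by rw [smul_comm, hb, mul_smul]⟩
    obtain ⟨b, hb, hse⟩ := hm
    have h1 : t * (s * a - b) ∈ I := hta _ (by rw [sub_smul, mul_smul, hse, sub_self])
    have h2 : t * s * a = t * (s * a - b) + t * b := by ring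
    rw [h2]
    exact J.add_mem (hIJ h1) (J.mul_mem_left t hb)

end Groth.Agent.ParaRel
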