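import Groth.Agent.ParaRel.Vanish

/-!
# Regular sequences along an adic filtration
-/

set_option autoImplicit false
set_option linter.style.haveILetI false
set_option linter.unusedSectionVars false

universe u

open IsLocalRing RingTheory.Sequence Pointwise

namespace Groth.Agent.ParaRel

variable {A : Type u} [CommRing A]

theorem mem_smul_top {M : Type u} [AddCommGroup M] [Module A M] (r : A) (y : M) :
    y ∈ (r • (⊤ : Submodule A M)) ↔ ∃ z, r • z = y := by
  rw [Submodule.mem_smul_pointwise_iff_exists]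
  simp

/-- Weakly regular sequences go to extensions. -/
theorem isWeaklyRegular_ext : ∀ (rs : List A) {X Y Z : Type u} [AddCommGroup X] [Module A X] [AddCommGroup Y]
    [Module A Y] [AddCommGroup Z] [Module A Z] (f : X →ₗ[A] Y) (g : Y →ₗ[A] Z), Function.Injective f →
    Function.Exact f g → Function.Surjective g → IsWeaklyRegular X rs → IsWeaklyRegular Z rs →
    IsWeaklyRegular Y rs
  | [], _, _, _, _, _, _, _, _, _, _, _, _, _, _, _, _ => IsWeaklyRegular.nil A _
  | r :: rs, X, Y, Z, _, _, _, _, _, _, f, g, hf, hfg, hg, hX, hZ => by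
    obtain ⟨hXr, hX'⟩ := (isWeaklyRegular_cons_iff X r rs).1 hX
    obtain ⟨hZr, hZ'⟩ := (isWeaklyRegular_cons_iff Z r rs).1 hZ
    refine (isWeaklyRegular_cons_iff Y r rs).2 ⟨?_, isWeaklyRegular_ext rs (QuotSMulTop.map r f)
      (QuotSMulTop.map r g) ?_ ?_ ?_ hX' hZ'⟩
    · intro y y' h
      change r • y = r • y' at h
      rw [← sub_eq_zero, ← smul_sub] at h
      rw [← sub_eq_zero]
      have h1 : g (y - y') = 0 := hZr (by
        show r • g (y - y') = r • 0
        rw [smul_zero, ← map_smul, h, map_zero])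
      obtain ⟨x, hx⟩ := (hfg _).1 h1
      have h2 : x = 0 := hXr (by
        show r • x = r • 0
        refine hf ?_
        rw [smul_zero, map_zero, map_smul, hx, h])
      rw [← hx, h2, map_zero]
    · rw [injective_iff_map_eq_zero]
      intro q hq
      obtain ⟨x, rfl⟩ := Submodule.Quotient.mk_surjective _ q
      have hq' : f x ∈ (r • (⊤ : Submodule A Y)) := (Submodule.Quotient.mk_eq_zero _).1 hq
      obtain ⟨y, hy⟩ := (mem_smul_top r _).1 hq'
      have h1 : g y = 0 := hZr (by
        show r • g y = r • 0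
        rw [smul_zero, ← map_smul, hy, hfg.apply_apply_eq_zero])
      obtain ⟨x', hx'⟩ := (hfg y).1 h1
      exact (Submodule.Quotient.mk_eq_zero _).2 ((mem_smul_top r x).2 ⟨x', hf (by rw [map_smul, hx', hy])⟩)
    · intro q
      obtain ⟨y, rfl⟩ := Submodule.Quotient.mk_surjective _ q
      constructor
      · intro hq
        obtain ⟨z, hz⟩ := (mem_smul_top r _).1 ((Submodule.Quotient.mk_eq_zero _).1
          (hq : (Submodule.Quotient.mk (g y) : QuotSMulTop r Z) = 0))
        change r • z = g y at hz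
        obtain ⟨y', rfl⟩ := hg z
        obtain ⟨x, hx⟩ := (hfg (y - r • y')).1 (by rw [map_sub, map_smul, hz, sub_self])
        refine ⟨Submodule.Quotient.mk x, ?_⟩
        show (Submodule.Quotient.mk (f x) : QuotSMulTop r Y) = Submodule.Quotient.mk y
        rw [hx, Submodule.Quotient.eq]
        exact (mem_smul_top r _).2 ⟨-y', by rw [smul_neg]; abel⟩
      · rintro ⟨q', hq'⟩
        obtain ⟨x, rfl⟩ := Submodule.Quotient.mk_surjective _ q'
        rw [← hq']
        show (Submodule.Quotient.mk (g (f x)) : QuotSMulTop r Z) = 0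
        rw [hfg.apply_apply_eq_zero]
        rfl
    · intro q
      obtain ⟨z, rfl⟩ := Submodule.Quotient.mk_surjective _ q
      obtain ⟨y, rfl⟩ := hg z
      exact ⟨Submodule.Quotient.mk y, rfl⟩

theorem isWeaklyRegular_of_subsingleton (rs : List A) {M : Type u} [AddCommGroup M] [Module A M]
    [Subsingleton M] : IsWeaklyRegular M rs := by
  refine ⟨fun i hi => fun x y _ => ?_⟩
  haveI : Subsingleton (M ⧸ (Ideal.ofList (rs.take i) • ⊤ : Submodule A M)) :=
    (Submodule.Quotient.mk_surjective _).subsingleton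
  exact Subsingleton.elim x y

theorem isWeaklyRegular_pi (rs : List A) {N : Type u} [AddCommGroup N] [Module A N] (h : IsWeaklyRegular N rs) :
    ∀ r : ℕ, IsWeaklyRegular (Fin r → N) rs := by
  intro r
  induction r with
  | zero => exact isWeaklyRegular_of_subsingleton rs
  | succ r ih =>
    refine isWeaklyRegular_ext rs (LinearMap.single A (fun _ : Fin (r + 1) => N) 0)
      (LinearMap.funLeft A N Fin.succ) (fun x y hxy => by simpa using congrFun hxy 0)
      (fun v => ⟨fun hv => ⟨v 0, funext fun j => ?_⟩, ?_⟩)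
      (fun w => ⟨(Fin.cons 0 w : Fin (r + 1) → N), funext fun j => by simp⟩) h ih
    · induction j using Fin.cases with
      | zero => simp
      | succ j =>
        have := congrFun hv j
        simp at this
        simp [this, Fin.succ_ne_zero]
    · rintro ⟨x, rfl⟩
      exact funext fun j => by simp [Fin.succ_ne_zero]

theorem mk_mem_smul_top_quot (P K : Ideal A) (x : A) :
    Ideal.Quotient.mk K x ∈ (P • ⊤ : Submodule A (A ⧸ K)) ↔ x ∈ P ⊔ K := by
  have h : (P • ⊤ : Submodule A (A ⧸ K)) = Submodule.map (Submodule.mkQ K) P := by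
    conv_rhs => rw [show P = P • (⊤ : Submodule A A) from (Ideal.mul_top P).symm, Submodule.map_smul'',
      Submodule.map_top, Submodule.range_mkQ]
  rw [h]
  show x ∈ Submodule.comap (Submodule.mkQ K) (Submodule.map (Submodule.mkQ K) P) ↔ _
  rw [Submodule.comap_map_eq, Submodule.ker_mkQ]

variable [IsLocalRing A] [IsNoetherianRing A]

/-- A sequence regular on all quotients by powers of an ideal is regular. -/
theorem isWeaklyRegular_of_pow {J : Ideal A} (hJ : J ≠ ⊤) (rs : List A) (hrs : ∀ x ∈ rs, x ∈ maximalIdeal A)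
    (h : ∀ n, IsWeaklyRegular (A ⧸ J ^ (n + 1)) rs) : IsWeaklyRegular A rs := by
  refine ⟨fun i hi => ?_⟩
  have hP : (Ideal.ofList (rs.take i) • ⊤ : Submodule A A) = Ideal.ofList (rs.take i) := Ideal.mul_top _
  rw [isSMulRegular_iff_right_eq_zero_of_smul]
  intro q hq
  obtain ⟨x, rfl⟩ := Submodule.Quotient.mk_surjective _ q
  rw [← Submodule.Quotient.mk_smul, Submodule.Quotient.mk_eq_zero, hP] at hq
  rw [Submodule.Quotient.mk_eq_zero, hP]
  have hPm : Ideal.ofList (rs.take i) ≤ maximalIdeal A :=
    Ideal.span_le.2 fun y hy => hrs y (List.take_subset _ _ hy)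
  have hn : ∀ n, x ∈ Ideal.ofList (rs.take i) ⊔ J ^ (n + 1) := fun n => by
    have h1 := (h n).regular_mod_prev i hi
    rw [isSMulRegular_iff_right_eq_zero_of_smul] at h1
    have h2 := h1 (Submodule.Quotient.mk (Ideal.Quotient.mk (J ^ (n + 1)) x)) (by
      rw [← Submodule.Quotient.mk_smul, Submodule.Quotient.mk_eq_zero]
      exact (mk_mem_smul_top_quot _ _ (rs[i] • x)).2 (Ideal.mem_sup_left hq))
    rw [Submodule.Quotient.mk_eq_zero] at h2
    exact (mk_mem_smul_top_quot _ _ x).1 h2
  have hinf : Submodule.Quotient.mk (p := Ideal.ofList (rs.take i)) x ∈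
      (⨅ n : ℕ, J ^ n • (⊤ : Submodule A (A ⧸ Ideal.ofList (rs.take i)))) := by
    rw [Submodule.mem_iInf]
    intro n
    rcases n with - | n
    · rw [pow_zero, Ideal.one_eq_top, Submodule.top_smul]; exact Submodule.mem_top
    · exact (mk_mem_smul_top_quot _ _ x).2 (by rw [sup_comm]; exact hn n)
  rw [Ideal.iInf_pow_smul_eq_bot_of_isLocalRing J hJ] at hinf
  exact (Submodule.Quotient.mk_eq_zero _).1 ((Submodule.mem_bot A).1 hinf)

end Groth.Agent.ParaRel
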