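import Groth.Agent.ParaRel.Quot
import Groth.Agent.ParaExt.Local

/-!
# Descent of trivial rank one modules along flat local maps with zero dimensional fibre
-/

set_option autoImplicit false
set_option linter.style.haveILetI false
set_option linter.unusedSectionVars false

universe u

open IsLocalRing TensorProduct

namespace Groth.Agent.ParaRel

variable {A B : Type u} [CommRing A] [IsLocalRing A] [IsNoetherianRing A] [CommRing B] [IsLocalRing B]
  [IsNoetherianRing B] [Algebra A B]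

/-- Base change keeps a generator near a point. -/
theorem gen_baseChange {M : Type u} [AddCommGroup M] [Module A M] (e : M) (s : A)
    (hsx : ∀ x, ∃ a : A, s • x = a • e) (z : B ⊗[A] M) :
    ∃ b : B, algebraMap A B s • z = b • ((1 : B) ⊗ₜ[A] e) := by
  induction z using TensorProduct.induction_on with
  | zero => exact ⟨0, by rw [smul_zero, zero_smul]⟩
  | tmul c x =>
    obtain ⟨a, ha⟩ := hsx x
    exact ⟨a • c, by
      rw [algebraMap_smul, ← TensorProduct.tmul_smul, ha, TensorProduct.tmul_smul, TensorProduct.smul_tmul',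
        TensorProduct.smul_tmul', smul_eq_mul, mul_one]⟩
  | add z z' h h' =>
    obtain ⟨b, hb⟩ := h
    obtain ⟨b', hb'⟩ := h'
    exact ⟨b + b', by rw [smul_add, add_smul, hb, hb']⟩

/-- Rank one modules off the closed point stay so after base change. -/
theorem lr_baseChange (hcomap : ∀ q : Ideal B, q.IsPrime → q ≠ maximalIdeal B →
      q.comap (algebraMap A B) ≠ maximalIdeal A)
    {M : Type u} [AddCommGroup M] [Module A M] [Module.Finite A M] (hM : LR (⊥ : Ideal A) M) :
    LR (⊥ : Ideal B) (B ⊗[A] M) := fun q hq hqm => by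
  obtain ⟨e, s, t, hs, ht, hsx, -, α, hαe, -⟩ := exists_dual_gen hM (hq.comap _) (hcomap q hq hqm)
  refine ⟨(1 : B) ⊗ₜ[A] e, fun z => ?_, fun b hb => ⟨algebraMap A B (s * t), fun hm => ?_, ?_⟩⟩
  · obtain ⟨a, ha⟩ := gen_baseChange e s hsx z
    exact ⟨algebraMap A B s, hs, a, ha⟩
  · exact ((hq.comap (algebraMap A B)).mem_or_mem (show s * t ∈ q.comap (algebraMap A B) from hm)).elim hs ht
  · let α₀ : M →ₗ[A] A := (Submodule.quotEquivOfEqBot (⊥ : Ideal A) rfl).toLinearMap ∘ₗ α
    have hα₀ : α₀ e = s * t := by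
      show Submodule.quotEquivOfEqBot (⊥ : Ideal A) rfl (α e) = s * t
      rw [hαe]
      rfl
    have h1 := congrArg (LinearMap.liftBaseChange B ((Algebra.linearMap A B).comp α₀)) hb
    rw [map_smul, map_zero, LinearMap.liftBaseChange_tmul, one_smul] at h1
    simp only [LinearMap.comp_apply, hα₀, Algebra.linearMap_apply, smul_eq_mul] at h1
    rw [Submodule.mem_bot, mul_comm]
    exact h1

/-- A map bijective off the closed point generates the dual. -/
theorem exists_eq_smul_of_lb {N : Type u} [AddCommGroup N] [Module B N] [Module.Finite B N]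
    (h0 : HVan (A := B) 0 B) (h1 : HVan (A := B) 1 B) (hN : LR (⊥ : Ideal B) N) (f : N →ₗ[B] B) (hf : LB f)
    (g : N →ₗ[B] B) : ∃ c : B, g = c • f := by
  let Θ : B →ₗ[B] (N →ₗ[B] B) := LinearMap.toSpanSingleton B _ f
  have hΘ : LB Θ := fun q hq hqm => by
    obtain ⟨s₁, hs₁, x, hx⟩ := (hf q hq hqm).2 1
    rw [smul_eq_mul, mul_one] at hx
    refine ⟨fun c hc => ⟨s₁, hs₁, ?_⟩, fun g => ?_⟩
    · have h2 : c • f x = 0 := LinearMap.congr_fun hc x
      rw [hx] at h2
      rw [smul_eq_mul] at h2 ⊢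
      rw [mul_comm, h2]
    · obtain ⟨e, hsx, -⟩ := hN q hq hqm
      obtain ⟨s₀, hs₀, a₀, ha₀⟩ := hsx x
      have h3 : s₀ * s₁ = a₀ * f e := by
        rw [← hx, ← smul_eq_mul, ← map_smul, ha₀, map_smul, smul_eq_mul]
      have hfe : f e ∉ q := fun hm => (hq.mem_or_mem (h3 ▸ q.mul_mem_left a₀ hm)).elim hs₀ hs₁
      obtain ⟨s, hs, hsall⟩ := exists_uniform_smul hq (Submodule.span B {e}) fun z => by
        obtain ⟨s, hs, a, ha⟩ := hsx z
        exact ⟨s, hs, Submodule.mem_span_singleton.2 ⟨a, ha.symm⟩⟩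
      refine ⟨f e * s, fun hm => (hq.mem_or_mem hm).elim hfe hs, g e * s, LinearMap.ext fun z => ?_⟩
      obtain ⟨a, ha⟩ := Submodule.mem_span_singleton.1 (hsall z)
      have hgz : s * g z = a * g e := by rw [← smul_eq_mul, ← map_smul, ← ha, map_smul, smul_eq_mul]
      have hfz : s * f z = a * f e := by rw [← smul_eq_mul, ← map_smul, ← ha, map_smul, smul_eq_mul]
      show (g e * s) * f z = (f e * s) * g z
      calc (g e * s) * f z = g e * (a * f e) := by rw [mul_assoc, hfz]
        _ = f e * (a * g e) := by ring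
        _ = (f e * s) * g z := by rw [mul_assoc, hgz]
  obtain ⟨c, hc⟩ := hΘ.surjective h1 (hvan_dual (M := N) h0 h1).1 g
  exact ⟨c, hc.symm⟩

/-- A map to the ring after a flat local base change descends. -/
theorem exists_lb_of_flat [IsLocalHom (algebraMap A B)] [Module.Flat A B]
    (hcomap : ∀ q : Ideal B, q.IsPrime → q ≠ maximalIdeal B → q.comap (algebraMap A B) ≠ maximalIdeal A)
    (h0 : HVan (A := B) 0 B) (h1 : HVan (A := B) 1 B) (M : Type u) [AddCommGroup M] [Module A M]
    [Module.Finite A M] (hM : LR (⊥ : Ideal A) M)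
    (hB : ∃ f : B ⊗[A] M →ₗ[B] B ⧸ (⊥ : Ideal B), LB f) : ∃ φ : M →ₗ[A] A ⧸ (⊥ : Ideal A), LB φ := by
  have hbot : ∀ a ∈ (⊥ : Ideal A), ∀ x : M, a • x = 0 := fun a ha x => by
    rw [(Submodule.mem_bot A).1 ha, zero_smul]
  haveI : Module.FaithfullyFlat A B := Module.FaithfullyFlat.of_flat_of_isLocalHom
  haveI : Module.FinitePresentation A M := Module.finitePresentation_of_finite A M
  have hN : LR (⊥ : Ideal B) (B ⊗[A] M) := lr_baseChange hcomap hM
  obtain ⟨f', hf'⟩ := hB
  let qB := Submodule.quotEquivOfEqBot (⊥ : Ideal B) rfl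
  let f : B ⊗[A] M →ₗ[B] B := qB.toLinearMap ∘ₗ f'
  have hf : LB f := fun q hq hqm => ⟨fun x hx => (hf' q hq hqm).1 x (qB.map_eq_zero_iff.1 hx), fun y => by
    obtain ⟨s, hs, x, hx⟩ := (hf' q hq hqm).2 (qB.symm y)
    exact ⟨s, hs, x, by
      show qB (f' x) = s • y
      rw [hx, map_smul, LinearEquiv.apply_symm_apply]⟩⟩
  let u : M →ₗ[A] B := (f.restrictScalars A) ∘ₗ (TensorProduct.mk A B M 1)
  obtain ⟨k, h₂, h₃, hu⟩ := Module.Flat.exists_factorization_of_finitePresentation u
  let φ : Fin k → (M →ₗ[A] A) := fun i => Finsupp.lapply i ∘ₗ h₂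
  let y : Fin k → B := fun i => h₃ (Finsupp.single i 1)
  let φB : Fin k → (B ⊗[A] M →ₗ[B] B) := fun i => LinearMap.liftBaseChange B ((Algebra.linearMap A B).comp (φ i))
  have hdec : f = ∑ i, y i • φB i := by
    apply TensorProduct.AlgebraTensorModule.curry_injective
    refine LinearMap.ext fun b => LinearMap.ext fun m => ?_
    show f (b ⊗ₜ[A] m) = (∑ i, y i • φB i) (b ⊗ₜ[A] m)
    have hb : b ⊗ₜ[A] m = b • ((1 : B) ⊗ₜ[A] m) := by rw [TensorProduct.smul_tmul', smul_eq_mul, mul_one]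
    rw [hb, map_smul, map_smul]
    congr 1
    have hm : f ((1 : B) ⊗ₜ[A] m) = h₃ (h₂ m) := LinearMap.congr_fun hu m
    rw [hm]
    conv_lhs => rw [← Finsupp.univ_sum_single (h₂ m)]
    rw [map_sum, LinearMap.coe_sum, Finset.sum_apply]
    refine Finset.sum_congr rfl fun i _ => ?_
    rw [LinearMap.smul_apply, LinearMap.liftBaseChange_tmul, one_smul, smul_eq_mul,
      show Finsupp.single i (h₂ m i) = (h₂ m i) • Finsupp.single i (1 : A) by rw [Finsupp.smul_single_one],
      map_smul, Algebra.smul_def, mul_comm]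
    rfl
  choose c hc using fun i => exists_eq_smul_of_lb h0 h1 hN f hf (φB i)
  have hunit : ∑ i, y i * c i = 1 := by
    rw [← sub_eq_zero]
    refine (hvan_zero_iff _).1 h0 _ (mem_torsion_of_forall _ fun q hq hqm => ?_)
    obtain ⟨s, hs, x, hx⟩ := (hf q hq hqm).2 1
    rw [smul_eq_mul, mul_one] at hx
    refine ⟨s, hs, ?_⟩
    have h2 : f x = (∑ i, y i * c i) * f x := by
      conv_lhs => rw [hdec]
      rw [LinearMap.coe_sum, Finset.sum_apply, Finset.sum_mul]
      refine Finset.sum_congr rfl fun i _ => ?_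
      rw [LinearMap.smul_apply, hc i, LinearMap.smul_apply, smul_eq_mul, smul_eq_mul, mul_assoc]
    rw [hx] at h2
    rw [smul_eq_mul, mul_sub, mul_one, mul_comm, ← h2, sub_self]
  obtain ⟨i, hi⟩ : ∃ i, IsUnit (c i) := by
    by_contra hne
    refine (maximalIdeal.isMaximal B).ne_top ((Ideal.eq_top_iff_one _).2 ?_)
    rw [← hunit]
    exact Ideal.sum_mem _ fun i _ => Ideal.mul_mem_left _ _ ((mem_maximalIdeal _).2 fun h => hne ⟨i, h⟩)
  refine ⟨Submodule.mkQ ⊥ ∘ₗ φ i, fun p hp hpm => ?_⟩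
  obtain ⟨e, s, hs, -, -, hsx, -⟩ := exists_local hM hp hpm
  refine bij_at hbot hp e s hs hsx _ (φ i e) rfl (Or.inl fun hep => ?_)
  obtain ⟨⟨q, hq⟩, hqp⟩ := PrimeSpectrum.comap_surjective_of_faithfullyFlat (A := A) (B := B) ⟨p, hp⟩
  have hqp' : q.comap (algebraMap A B) = p := congrArg PrimeSpectrum.asIdeal hqp
  have hqm : q ≠ maximalIdeal B := fun he => hpm (by
    rw [← hqp', he]
    exact IsLocalRing.maximalIdeal_comap (algebraMap A B))
  obtain ⟨s₁, hs₁, x, hx⟩ := (hf q hq hqm).2 1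
  rw [smul_eq_mul, mul_one] at hx
  obtain ⟨b, hb⟩ := gen_baseChange e s hsx x
  have h2 : φB i (algebraMap A B s • x) = c i * (algebraMap A B s * s₁) := by
    rw [map_smul, hc i, LinearMap.smul_apply, hx, smul_eq_mul, smul_eq_mul]
    ring
  have h3 : φB i (algebraMap A B s • x) ∈ q := by
    rw [hb, map_smul, LinearMap.liftBaseChange_tmul, one_smul, smul_eq_mul]
    exact q.mul_mem_left _ (show φ i e ∈ q.comap (algebraMap A B) from hqp'.symm ▸ hep)
  rw [h2] at h3
  rcases hq.mem_or_mem h3 with h | h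
  · exact hq.ne_top (Ideal.eq_top_of_isUnit_mem _ h hi)
  · rcases hq.mem_or_mem h with h | h
    · exact hs (hqp' ▸ h)
    · exact hs₁ h

/-- Triviality descends along flat local maps whose closed fibre has one point. -/
theorem triv_of_flat [IsLocalHom (algebraMap A B)] [Module.Flat A B]
    (hcomap : ∀ q : Ideal B, q.IsPrime → q ≠ maximalIdeal B → q.comap (algebraMap A B) ≠ maximalIdeal A)
    (h0 : HVan (A := B) 0 B) (h1 : HVan (A := B) 1 B) (hB : Triv (⊥ : Ideal B)) : Triv (⊥ : Ideal A) := by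
  intro M _ _ _ _ hM
  exact exists_lb_of_flat hcomap h0 h1 M hM
    (hB (B ⊗[A] M) (fun b hb x => by rw [(Submodule.mem_bot B).1 hb, zero_smul]) (lr_baseChange hcomap hM))

end Groth.Agent.ParaRel
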