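import Groth.Agent.ParaRel.Quot
import Groth.Agent.Triage.CMMor
import Groth.Prelude.Def_CInt

/-!
# Parafactoriality of a flat morphism along its fibres
-/

set_option autoImplicit false
set_option linter.style.haveILetI false
set_option linter.unusedSectionVars false
set_option backward.isDefEq.respectTransparency false
set_option backward.isDefEq.respectTransparency.types false

universe u

open IsLocalRing CategoryTheory AlgebraicGeometry TopologicalSpace

namespace Groth.Agent.ParaRel

theorem triv_of_ringEquiv {A B : Type u} [CommRing A] [CommRing B] [IsLocalRing A] [IsLocalRing B]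
    (e : A ≃+* B) (h : Triv (⊥ : Ideal A)) : Triv (⊥ : Ideal B) := by
  intro M _ _ _ hbot hM
  letI : Algebra A B := e.toRingHom.toAlgebra
  letI : Module A M := Module.compHom M e.toRingHom
  haveI : IsScalarTower A B M := IsScalarTower.of_algebraMap_smul fun _ _ => rfl
  haveI : Module.Finite A B := Module.Finite.of_surjective (Algebra.linearMap A B) e.surjective
  haveI : Module.Finite A M := Module.Finite.trans B M
  have hmax : ∀ q : Ideal B, q ≠ maximalIdeal B → q.comap e.toRingHom ≠ maximalIdeal A := fun q hq hc =>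
    hq (Ideal.comap_injective_of_surjective e.toRingHom e.surjective (hc.trans (IsLocalRing.eq_maximalIdeal
      (Ideal.comap_isMaximal_of_surjective e.toRingHom e.surjective)).symm))
  obtain ⟨φ, hφ⟩ := h M (fun a ha x => by
      show e a • x = 0
      rw [(Submodule.mem_bot A).1 ha, map_zero, zero_smul]) fun p hp hpm => by
    haveI := hp
    have hpm' : p.comap e.symm.toRingHom ≠ maximalIdeal B := fun hc => hpm
      (Ideal.comap_injective_of_surjective e.symm.toRingHom e.symm.surjective (hc.trans (IsLocalRing.eq_maximalIdeal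
        (Ideal.comap_isMaximal_of_surjective e.symm.toRingHom e.symm.surjective)).symm))
    obtain ⟨m, hsx, hta⟩ := hM _ (hp.comap e.symm.toRingHom) hpm'
    refine ⟨m, fun x => ?_, fun a ha => ?_⟩
    · obtain ⟨s, hs, b, hb⟩ := hsx x
      refine ⟨e.symm s, hs, e.symm b, ?_⟩
      show e (e.symm s) • x = e (e.symm b) • m
      rw [e.apply_symm_apply, e.apply_symm_apply]
      exact hb
    · obtain ⟨s, hs, hsa⟩ := hta (e a) ha
      refine ⟨e.symm s, hs, (Submodule.mem_bot A).2 ?_⟩
      apply e.injective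
      rw [map_mul, e.apply_symm_apply, map_zero]
      exact (Submodule.mem_bot B).1 hsa
  let qA := Submodule.quotEquivOfEqBot (⊥ : Ideal A) rfl
  let qB := Submodule.quotEquivOfEqBot (⊥ : Ideal B) rfl
  let ψ : M →ₗ[B] B :=
    { toFun := fun x => e (qA (φ x))
      map_add' := fun x y => by rw [map_add, map_add, map_add]
      map_smul' := fun b x => by
        obtain ⟨a, rfl⟩ := e.surjective b
        have : e a • x = a • x := rfl
        rw [this, map_smul, map_smul, smul_eq_mul, map_mul, RingHom.id_apply, smul_eq_mul] }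
  refine ⟨qB.symm.toLinearMap ∘ₗ ψ, fun q hq hqm => ?_⟩
  obtain ⟨h1, h2⟩ := hφ _ (hq.comap e.toRingHom) (hmax q hqm)
  refine ⟨fun x hx => ?_, fun y => ?_⟩
  · have h0 : e (qA (φ x)) = 0 := qB.symm.map_eq_zero_iff.1 hx
    obtain ⟨s, hs, hsx⟩ := h1 x (qA.map_eq_zero_iff.1 (e.map_eq_zero_iff.1 h0))
    exact ⟨e s, hs, hsx⟩
  · obtain ⟨s, hs, x, hx⟩ := h2 (qA.symm (e.symm (qB y)))
    refine ⟨e s, hs, x, ?_⟩
    apply qB.injective
    show qB (qB.symm (e (qA (φ x)))) = qB (e s • y)
    rw [qB.apply_symm_apply, hx, map_smul, qA.apply_symm_apply, smul_eq_mul, map_mul, e.apply_symm_apply,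
      map_smul, smul_eq_mul]

/-- A point with a parafactorial, deep enough, fibre is parafactorial. -/
theorem parafactorial_of_fibre {X S : Scheme.{u}} [IsLocallyNoetherian X] [IsLocallyNoetherian S] (f : X ⟶ S)
    [Flat f] (x : X) (hd : (3 : ℕ∞) ≤ LocCoh.depth ↑(CInt.fiberStalk f x) ↑(CInt.fiberStalk f x))
    (hp : ParaF.IsParafactorialLocalRing ↑(CInt.fiberStalk f x)) :
    ParaF.IsParafactorialLocalRing (X.presheaf.stalk x) := by
  let A := S.presheaf.stalk (f x)
  let B := X.presheaf.stalk x
  letI : Algebra A B := (f.stalkMap x).hom.toAlgebra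
  haveI : Module.Flat A B := Flat.stalkMap f x
  haveI : IsLocalHom (algebraMap A B) := inferInstanceAs (IsLocalHom (f.stalkMap x).hom)
  obtain ⟨e⟩ := Triage.CMMor.exists_equiv_fibre_stalk f x
  let J : Ideal B := (maximalIdeal A).map (algebraMap A B)
  have hJ : J ≠ ⊤ := by
    refine ne_top_of_le_ne_top (maximalIdeal.isMaximal B).ne_top ?_
    rw [Ideal.map_le_iff_le_comap]
    intro a ha
    exact map_nonunit (algebraMap A B) a ha
  haveI : Nontrivial (B ⧸ J) := Ideal.Quotient.nontrivial_iff.2 hJ
  haveI : IsLocalRing (B ⧸ J) := IsLocalRing.of_surjective' (Ideal.Quotient.mk J) Ideal.Quotient.mk_surjective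
  let e' : (B ⧸ J) ≃+* ↑(CInt.fiberStalk f x) := e
  have hd' : (3 : ℕ∞) ≤ LocCoh.depth (B ⧸ J) (B ⧸ J) := hd.trans
    (Alg6.depth_eq_of_semilinear e'.toRingHom e'.surjective e'.toAddEquiv fun r v => map_mul e' r v).ge
  haveI : IsNoetherianRing ↑(CInt.fiberStalk f x) := isNoetherianRing_of_ringEquiv (B ⧸ J) e'
  obtain ⟨hb, hpic⟩ := (ParaFX.isParafactorialLocalRing_iff _).1 hp
  have h0 : ParaF.PicTrivial (FEt.puncturedSpec (B ⧸ J) : Scheme.{u}) := picTrivial_of_triv _
    (triv_of_ringEquiv e'.symm (triv_of_picTrivial _ (le_trans (by norm_num) hd) hpic))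
  obtain ⟨h3, h4⟩ := parafactorial_of_graded J hJ hd' (fun n => free_piece A B n) h0
  exact (ParaFX.isParafactorialLocalRing_iff _).2
    ⟨ParaFX.punctured_bijective _ (le_trans (by norm_num) h3), h4⟩

end Groth.Agent.ParaRel
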