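import Groth.Agent.ParaRel.Main
import Groth.Agent.ParaFX.Punctured
import Groth.Agent.QCoh.SpecFT
import Groth.Agent.AmpleX.Rel
import Groth.Agent.GrModX.AffineIso
import Groth.Agent.KZ.OpenExt
import Groth.Agent.Lib.CurveDeg

/-!
# Invertible modules on the punctured spectrum and modules locally of rank one
-/

set_option autoImplicit false
set_option linter.style.haveILetI false
set_option linter.unusedSectionVars false
set_option backward.isDefEq.respectTransparency false
set_option backward.isDefEq.respectTransparency.types false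

universe u

open CategoryTheory CategoryTheory.Limits AlgebraicGeometry TopologicalSpace Opposite IsLocalRing

namespace Groth.Agent.ParaRel

open Groth.Agent.AModX Groth.Agent.InvX Groth.Agent.ParaFX

noncomputable section

variable {R : CommRingCat.{u}} (M : Type u) [AddCommGroup M] [Module R M]

local notation "X" => Spec R

/-- The sheaf of a module. -/
def sheafM : (Spec R).Modules := tilde (R := R) (ModuleCat.of R M)

/-- Its sections with the structure of module over the ring. -/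
abbrev SecM (f : R) : ModuleCat R := (modulesSpecToSheaf.obj (sheafM M)).presheaf.obj (op (bo f))

/-- Sections from elements of the module. -/
abbrev toSecM (f : R) : M →ₗ[R] SecM M f := (tilde.toOpen (R := R) (ModuleCat.of R M) (bo f)).hom

instance isLocalizedModule_toSecM (f : R) : IsLocalizedModule.Away (R := R) f (toSecM (R := R) M f) :=
  ParaFX.isLocalizedModule_toOpen (ModuleCat.of R M) f

theorem isQCoh_sheafM : Coh.IsQCoh (sheafM (R := R) M) := by
  change Coh.IsQCoh (tilde (R := R) (ModuleCat.of R M))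
  infer_instance

theorem exists_toSecM (f : R) (z : SecM M f) : ∃ (n : ℕ) (b : M), f ^ n • z = toSecM M f b := by
  obtain ⟨⟨b, ⟨_, n, rfl⟩⟩, h⟩ := IsLocalizedModule.surj (Submonoid.powers f) (toSecM M f) z
  exact ⟨n, b, h⟩

theorem toSecM_eq_iff (f : R) (a b : M) : toSecM M f a = toSecM M f b ↔ ∃ n : ℕ, f ^ n • a = f ^ n • b := by
  rw [IsLocalizedModule.eq_iff_exists (Submonoid.powers f)]
  constructor
  · rintro ⟨⟨_, n, rfl⟩, h⟩; exact ⟨n, h⟩
  · rintro ⟨n, h⟩; exact ⟨⟨_, n, rfl⟩, h⟩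

theorem smul_secM (f : R) (a : R) (z : Γ(sheafM M, bo f)) : (algebraMap R Γ(X, bo f) a) • z =
    (show Γ(sheafM M, bo f) from a • (show SecM M f from z)) := rfl

theorem algebraMap_eq_iff (f : R) (a b : R) :
    algebraMap R Γ(X, bo f) a = algebraMap R Γ(X, bo f) b ↔ ∃ n : ℕ, f ^ n * a = f ^ n * b := by
  haveI : IsLocalization.Away f Γ(X, bo f) :=
    inferInstanceAs (IsLocalization.Away (R := R) f Γ(X, PrimeSpectrum.basicOpen f))
  rw [IsLocalization.eq_iff_exists (Submonoid.powers f)]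
  constructor
  · rintro ⟨⟨_, n, rfl⟩, h⟩; exact ⟨n, h⟩
  · rintro ⟨n, h⟩; exact ⟨⟨_, n, rfl⟩, h⟩

/-- Functions on a basic open act through the scalars. -/
theorem smul_numM (f : R) (r : Γ(X, bo f)) :
    ∃ (n : ℕ) (c : R), (algebraMap R Γ(X, bo f) (f ^ n)) * r = algebraMap R Γ(X, bo f) c := by
  haveI : IsLocalization.Away f Γ(X, bo f) :=
    inferInstanceAs (IsLocalization.Away (R := R) f Γ(X, PrimeSpectrum.basicOpen f))
  obtain ⟨⟨c, ⟨_, n, rfl⟩⟩, h⟩ := IsLocalization.surj (Submonoid.powers f) r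
  exact ⟨n, c, by rw [mul_comm]; exact h⟩

/-- A generator off `V(f)` gives a basis of the sections. -/
theorem bijective_genM (f : R) (e : M) (h1 : ∀ x : M, ∃ (n : ℕ) (a : R), f ^ n • x = a • e)
    (h2 : ∀ a : R, a • e = 0 → ∃ n : ℕ, f ^ n * a = 0) :
    Function.Bijective (fun r : Γ(X, bo f) => r • (show Γ(sheafM M, bo f) from toSecM M f e)) := by
  haveI : IsLocalization.Away f Γ(X, bo f) :=
    inferInstanceAs (IsLocalization.Away (R := R) f Γ(X, PrimeSpectrum.basicOpen f))
  have hu : ∀ n, IsUnit (algebraMap R Γ(X, bo f) (f ^ n)) := fun n =>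
    IsLocalization.map_units Γ(X, bo f) (⟨f ^ n, n, rfl⟩ : Submonoid.powers f)
  refine ⟨fun r r' h => ?_, fun z => ?_⟩
  · have hz : (r - r') • (show Γ(sheafM M, bo f) from toSecM M f e) = 0 := by
      rw [sub_smul, sub_eq_zero]; exact h
    obtain ⟨n, c, hc⟩ := smul_numM f (r - r')
    have h0 : (algebraMap R Γ(X, bo f) c) • (show Γ(sheafM M, bo f) from toSecM M f e) = 0 := by
      rw [← hc, mul_smul, hz, smul_zero]
    have h3 : toSecM M f (c • e) = toSecM M f 0 := by
      rw [map_smul, map_zero]; exact h0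
    obtain ⟨m, hm⟩ := (toSecM_eq_iff M f _ _).1 h3
    rw [smul_zero, ← mul_smul] at hm
    obtain ⟨k, hk⟩ := h2 _ hm
    have h4 : algebraMap R Γ(X, bo f) c = 0 := by
      rw [← map_zero (algebraMap R Γ(X, bo f)), algebraMap_eq_iff]
      exact ⟨k + m, by rw [mul_zero, pow_add, mul_assoc]; exact hk⟩
    rw [h4, (hu n).mul_right_eq_zero] at hc
    exact sub_eq_zero.1 hc
  · obtain ⟨n, b, hb⟩ := exists_toSecM M f (show SecM M f from z)
    obtain ⟨m, c, hc⟩ := h1 b
    obtain ⟨v, hv⟩ := hu (m + n)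
    refine ⟨(↑v⁻¹ : Γ(X, bo f)) * algebraMap R _ c, ?_⟩
    have key : (algebraMap R Γ(X, bo f) (f ^ (m + n))) • z =
        (algebraMap R Γ(X, bo f) c) • (show Γ(sheafM M, bo f) from toSecM M f e) := by
      rw [smul_secM, smul_secM]
      change (f ^ (m + n) • (show SecM M f from z)) = c • toSecM M f e
      rw [pow_add, mul_smul, hb, ← map_smul, ← map_smul, hc]
    simp only [mul_smul, ← key, ← hv, ← mul_smul _ (v : Γ(X, bo f)), Units.inv_mul, one_smul]

/-- A free rank one chart. -/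
theorem nonempty_iso_basicOpenM (f : R) (e : M) (h1 : ∀ x : M, ∃ (n : ℕ) (a : R), f ^ n • x = a • e)
    (h2 : ∀ a : R, a • e = 0 → ∃ n : ℕ, f ^ n * a = 0) :
    Nonempty ((sheafM M).restrict (bo f).ι ≅ Coh.structureModule (bo f : Scheme.{u})) := by
  let l : Γ(sheafM M, bo f) ≃ₗ[Γ(X, bo f)] (ULift.{u} (Fin 1) →₀ Γ(X, bo f)) :=
    (LinearEquiv.ofBijective (LinearMap.toSpanSingleton Γ(X, bo f) Γ(sheafM M, bo f)
      (show Γ(sheafM M, bo f) from toSecM M f e)) (bijective_genM M f e h1 h2)).symm.trans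
        (Finsupp.LinearEquiv.finsuppUnique Γ(X, bo f) Γ(X, bo f) (ULift.{u} (Fin 1))).symm
  obtain ⟨e'⟩ := QCoh.exists_free_restrict (isQCoh_sheafM M) (IsAffineOpen.Spec_basicOpen (R := R) f) l
  exact ⟨e' ≪≫ Limits.coproductUniqueIso fun _ : Fin 1 => Coh.structureModule (bo f : Scheme.{u})⟩

variable [IsLocalRing R] [IsNoetherianRing R]

/-- The sheaf of a module locally of rank one is invertible off the closed point. -/
theorem isInvertible_restrict_sheafM [Module.Finite R M] (hM : LR (⊥ : Ideal R) M) :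
    PicF.IsInvertible ((sheafM M).restrict (FEt.puncturedSpec R).ι) := by
  set U : (Spec R).Opens := FEt.puncturedSpec R with hU
  intro y
  have hyp : y.1.asIdeal ≠ maximalIdeal R := fun h => y.2 (Set.mem_singleton_iff.2 (PrimeSpectrum.ext h))
  obtain ⟨e, s, hs, t, ht, hsx, hta⟩ := exists_local hM y.1.isPrime hyp
  have hfp : s * t ∉ y.1.asIdeal := fun h => (y.1.isPrime.mem_or_mem h).elim hs ht
  obtain ⟨i⟩ := nonempty_iso_basicOpenM M (s * t) e
    (fun x => by
      obtain ⟨a, ha⟩ := hsx x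
      exact ⟨1, t * a, by rw [pow_one, mul_comm, mul_smul, ha, ← mul_smul]⟩)
    (fun a ha => ⟨1, by rw [pow_one, mul_assoc, (Submodule.mem_bot R).1 (hta a ha), mul_zero]⟩)
  set W : (U : Scheme.{u}).Opens := U.ι ⁻¹ᵁ bo (s * t) with hW
  have hle : U.ι ''ᵁ W ≤ bo (s * t) := by
    rintro _ ⟨z, hz, rfl⟩
    exact hz
  let b : (W : Scheme.{u}) ⟶ (bo (s * t) : Scheme.{u}) := (U.ι.isoImage W).hom ≫ (Spec R).homOfLE hle
  have hb : b ≫ (bo (s * t)).ι = W.ι ≫ U.ι := by simp [b]
  exact ⟨W, hfp, ⟨restrictTwice _ W.ι U.ι ≪≫ ((Scheme.Modules.restrictFunctorCongr hb).app _).symm ≪≫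
    (restrictTwice _ b (bo (s * t)).ι).symm ≪≫ (Scheme.Modules.restrictFunctor b).mapIso i ≪≫
    Scheme.Modules.restrictUnitIso b⟩⟩

/-- In depth two, a trivialisation off the closed point gives a map to the ring. -/
theorem lb_of_iso (hd : (2 : ℕ∞) ≤ LocCoh.depth R R) [Module.Finite R M]
    (ψ : (sheafM M).restrict (FEt.puncturedSpec R).ι ≅
      Coh.structureModule (FEt.puncturedSpec R : Scheme.{u})) :
    ∃ φ : M →ₗ[R] R ⧸ (⊥ : Ideal R), LB φ := by
  set U : (Spec R).Opens := FEt.puncturedSpec R with hU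
  let z0 : Γ(sheafM M, U.ι ''ᵁ ⊤) :=
    (InvX.one ψ.inv : Γ((sheafM M).restrict U.ι, ⊤))
  have hmem : ∀ f ∈ maximalIdeal R, bo f ≤ U := fun f hf x hx hxU =>
    hx (by rw [Set.mem_singleton_iff.1 hxU]; exact hf)
  have htop : ∀ f ∈ maximalIdeal R, bo f ≤ U.ι ''ᵁ ⊤ := fun f hf => by
    rw [Scheme.Opens.ι_image_top]; exact hmem f hf
  have key : ∀ (W : (U : Scheme.{u}).Opens) (V : (Spec R).Opens) (hV : V ≤ U.ι ''ᵁ ⊤), U.ι ''ᵁ W = V →
      Function.Bijective (fun r : Γ(X, V) => r • res (sheafM M) hV z0) := by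
    rintro W V hV rfl
    have hb : Function.Bijective (ψ.inv.app W) :=
      (ConcreteCategory.isIso_iff_bijective _).1 (Scheme.Modules.Hom.isIso_iff_isIso_app.1 inferInstance W)
    have e : (fun r : Γ(X, U.ι ''ᵁ W) => r • res (sheafM M) hV z0) =
        fun r => (show Γ(sheafM M, U.ι ''ᵁ W) from ψ.inv.app W r) := by
      funext r
      exact Eq.symm ((InvX.app_eq_smul ψ.inv (W := W) r).trans (H23.Frame.restrict_smul U W r _))
    rw [e]
    exact hb
  -- global coordinates
  have hres : ∀ V : (Spec R).Opens, V = U →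
      Function.Bijective ((Spec R).presheaf.map (homOfLE (le_top : V ≤ ⊤)).op) := by
    rintro V rfl
    exact ParaFX.punctured_bijective R hd
  let F : R → Γ(X, U.ι ''ᵁ ⊤) := fun a => resR (le_top : U.ι ''ᵁ ⊤ ≤ ⊤) ((Scheme.ΓSpecIso R).inv a)
  have hF : Function.Bijective F :=
    (hres _ (Scheme.Opens.ι_image_top U)).comp (ConcreteCategory.bijective_of_isIso (Scheme.ΓSpecIso R).inv)
  let gT : M → Γ(sheafM M, ⊤) := fun m => tilde.toOpen (R := R) (ModuleCat.of R M) ⊤ m
  have hbij : Function.Bijective (fun a : R => F a • z0) := by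
    have := key ⊤ _ le_rfl rfl
    rw [res_self] at this
    exact this.comp hF
  choose a ha' using fun m => hbij.2 (res (sheafM M) (le_top : U.ι ''ᵁ ⊤ ≤ ⊤) (gT m))
  have ha : ∀ m, F (a m) • z0 = res (sheafM M) (le_top : U.ι ''ᵁ ⊤ ≤ ⊤) (gT m) := ha'
  let φ₀ : M →ₗ[R] R :=
    { toFun := a
      map_add' := fun m m' => hbij.1 (by
        show F _ • z0 = F _ • z0
        rw [ha]
        simp only [F, gT, map_add, add_smul]
        exact (congrArg₂ (· + ·) (ha m) (ha m')).symm)
      map_smul' := fun c m => hbij.1 (by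
        show F _ • z0 = F _ • z0
        rw [ha, RingHom.id_apply, smul_eq_mul]
        have h1 : gT (c • m) = (Scheme.ΓSpecIso R).inv c • gT m := by
          simp only [gT, map_smul]
          rfl
        rw [h1, res_smul, ← ha m, ← mul_smul]
        simp only [F, map_mul]) }
  refine ⟨Submodule.mkQ ⊥ ∘ₗ φ₀, fun p hp hpm => ?_⟩
  obtain ⟨f, hfm, hfp⟩ : ∃ f ∈ maximalIdeal R, f ∉ p := SetLike.not_le_iff_exists.1 fun h =>
    hpm ((maximalIdeal.isMaximal R).eq_of_le hp.ne_top h).symm
  let zf : Γ(sheafM M, bo f) := res (sheafM M) (htop f hfm) z0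
  have hzf : Function.Bijective (fun r : Γ(X, bo f) => r • zf) :=
    key (U.ι ⁻¹ᵁ bo f) (bo f) (htop f hfm) (by
      rw [Scheme.Hom.image_preimage_eq_opensRange_inf, Scheme.Opens.opensRange_ι]
      exact inf_eq_right.2 (hmem f hfm))
  have hloc : ∀ m, (algebraMap R Γ(X, bo f) (φ₀ m)) • zf = (show Γ(sheafM M, bo f) from toSecM M f m) := by
    intro m
    have h1 := congrArg (res (sheafM M) (htop f hfm)) (ha m)
    simp only [res_smul, res_res] at h1
    simp only [F] at h1
    rw [resR_resR] at h1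
    exact h1
  refine ⟨fun x hx => ?_, fun y => ?_⟩
  · have hx0 : φ₀ x = 0 := (Submodule.mem_bot R).1 ((Submodule.Quotient.mk_eq_zero _).1 hx)
    have h1 := hloc x
    rw [hx0, map_zero, zero_smul] at h1
    obtain ⟨n, hn⟩ := (toSecM_eq_iff M f x 0).1 (by rw [map_zero]; exact h1.symm)
    exact ⟨f ^ n, fun h => hfp (hp.mem_of_pow_mem n h), by rw [hn, smul_zero]⟩
  · obtain ⟨c, rfl⟩ := Submodule.Quotient.mk_surjective _ y
    obtain ⟨n, b, hb⟩ := exists_toSecM M f (show SecM M f from zf)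
    have h1 : (algebraMap R Γ(X, bo f) (φ₀ b)) • zf = (algebraMap R Γ(X, bo f) (f ^ n)) • zf := by
      rw [hloc b, smul_secM M f (f ^ n) zf]
      exact hb.symm
    obtain ⟨k, hk⟩ := (algebraMap_eq_iff f _ _).1 (hzf.1 h1)
    refine ⟨f ^ (k + n), fun h => hfp (hp.mem_of_pow_mem _ h), (f ^ k * c) • b, ?_⟩
    show Submodule.mkQ ⊥ (φ₀ ((f ^ k * c) • b)) = f ^ (k + n) • Submodule.Quotient.mk c
    rw [map_smul, ← Submodule.Quotient.mk_smul, Submodule.mkQ_apply, smul_eq_mul, smul_eq_mul]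
    congr 1
    rw [mul_right_comm, hk, pow_add]

/-- If the punctured spectrum has trivial Picard group, in depth two, rank one modules map to the ring. -/
theorem triv_bot_of_picTrivial (hd : (2 : ℕ∞) ≤ LocCoh.depth R R)
    (hpic : ParaF.PicTrivial (FEt.puncturedSpec R : Scheme.{u})) : Triv (⊥ : Ideal R) := by
  intro M _ _ _ _ hM
  obtain ⟨ψ⟩ := hpic _ (isInvertible_restrict_sheafM M hM)
  exact lb_of_iso M hd ψ

/-- If rank one modules map to the ring, the punctured spectrum has trivial Picard group. -/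
theorem picTrivial_of_triv_bot (htriv : Triv (⊥ : Ideal R)) :
    ParaF.PicTrivial (FEt.puncturedSpec R : Scheme.{u}) := by
  set U : (Spec R).Opens := FEt.puncturedSpec R with hU
  intro L hL
  haveI : IsLocallyNoetherian (Spec R) := inferInstance
  haveI : IsNoetherian (Spec R) := inferInstance
  haveI : QuasiCompact U.ι := inferInstance
  have hLc := CurveDeg.isCoh_of_isInvertible hL
  obtain ⟨G, hG, hGft, ⟨eG⟩⟩ := QCoh.exists_extension_abs (KZ.extStep U) L hLc.1 hLc.2
  haveI : G.IsQuasicoherent := hG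
  let M : Type u := (moduleSpecΓFunctor.obj G : ModuleCat R)
  haveI : Module.Finite R M := (QCoh.isFT_iff_finite G hG).1 hGft
  have hiso := (isQuasicoherent_iff_isIso_fromTildeΓ G).1 hG
  let e₀ : sheafM M ≅ G := @asIso _ _ _ _ G.fromTildeΓ hiso
  let eM : (sheafM M).restrict U.ι ≅ L := (Scheme.Modules.restrictFunctor U.ι).mapIso e₀ ≪≫ eG
  have hinv : PicF.IsInvertible ((sheafM M).restrict U.ι) := H23.PicMul.isInvertible_of_iso eM.symm hL
  have hM : LR (⊥ : Ideal R) M := by
    intro p hp hpm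
    have hpU : (⟨p, hp⟩ : PrimeSpectrum R) ∈ U.ι.opensRange := by
      rw [Scheme.Opens.opensRange_ι]
      exact fun h => hpm (congrArg PrimeSpectrum.asIdeal (Set.mem_singleton_iff.1 h))
    obtain ⟨V, hpV, e, he⟩ := AmpleX.exists_frame_of_isInvertible_restrict U.ι hinv hpU
    obtain ⟨_, ⟨f, rfl⟩, hpf, hfV⟩ :=
      PrimeSpectrum.isTopologicalBasis_basic_opens.exists_subset_of_mem_open hpV V.2
    let z : Γ(sheafM M, bo f) := res (sheafM M) (show bo f ≤ V from hfV) e
    have hz : Function.Bijective (fun r : Γ(X, bo f) => r • z) := he (bo f) hfV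
    obtain ⟨n, m, hm⟩ := exists_toSecM M f (show SecM M f from z)
    refine ⟨m, fun x => ?_, fun a ha => ?_⟩
    · obtain ⟨r, hr⟩ := hz.2 (show Γ(sheafM M, bo f) from toSecM M f x)
      obtain ⟨k, a, ha⟩ := smul_numM f r
      have h1 : (algebraMap R Γ(X, bo f) (f ^ (n + k))) • (show Γ(sheafM M, bo f) from toSecM M f x) =
          (algebraMap R Γ(X, bo f) a) • (show Γ(sheafM M, bo f) from toSecM M f m) := by
        rw [← hr, ← mul_smul, pow_add, map_mul, mul_assoc, ha, mul_comm, mul_smul, smul_secM M f (f ^ n) z]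
        exact congrArg _ hm
      have h2 : toSecM M f (f ^ (n + k) • x) = toSecM M f (a • m) := by
        rw [map_smul, map_smul]; exact h1
      obtain ⟨j, hj⟩ := (toSecM_eq_iff M f _ _).1 h2
      refine ⟨f ^ j * f ^ (n + k), fun h => hpf ?_, f ^ j * a, by rw [mul_smul, hj, ← mul_smul]⟩
      rw [← pow_add] at h
      exact hp.mem_of_pow_mem _ h
    · have h0 : toSecM M f (a • m) = 0 := by rw [ha, map_zero]
      rw [map_smul, ← hm, ← mul_smul] at h0
      have h1 : (algebraMap R Γ(X, bo f) (a * f ^ n)) • z = (algebraMap R Γ(X, bo f) 0) • z := by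
        rw [smul_secM, map_zero, zero_smul]
        exact h0
      obtain ⟨k, hk⟩ := (algebraMap_eq_iff f _ _).1 (hz.1 h1)
      refine ⟨f ^ k * f ^ n, fun h => hpf ?_, ?_⟩
      · rw [← pow_add] at h
        exact hp.mem_of_pow_mem _ h
      · rw [Submodule.mem_bot, mul_assoc, mul_comm (f ^ n), hk, mul_zero]
  obtain ⟨φ, hφ⟩ := htriv M (fun a ha x => by rw [(Submodule.mem_bot R).1 ha, zero_smul]) hM
  let φ₀ : M →ₗ[R] R := (Submodule.quotEquivOfEqBot _ rfl).toLinearMap ∘ₗ φ
  have hφ₀ : LB φ₀ := fun p hp hpm => ⟨fun x hx => (hφ p hp hpm).1 x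
      ((Submodule.quotEquivOfEqBot _ rfl).map_eq_zero_iff.1 hx), fun y => by
    obtain ⟨s, hs, x, hx⟩ := (hφ p hp hpm).2 ((Submodule.quotEquivOfEqBot _ rfl).symm y)
    exact ⟨s, hs, x, by
      show Submodule.quotEquivOfEqBot _ rfl (φ x) = s • y
      rw [hx, map_smul, LinearEquiv.apply_symm_apply]⟩⟩
  -- a section of the dual which generates off the closed point
  let O : (Spec R).Modules := tilde (R := R) (ModuleCat.of R R)
  let Φ : sheafM M ⟶ O := tilde.map (ModuleCat.ofHom φ₀)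
  have happ : ∀ (f : R) (m : M), Φ.app (bo f) (show Γ(sheafM M, bo f) from toSecM M f m) =
      (show Γ(O, bo f) from tilde.toOpen (R := R) (ModuleCat.of R R) (bo f) (φ₀ m)) := fun f m =>
    ConcreteCategory.congr_hom (tilde.toOpen_map_app (ModuleCat.ofHom φ₀) (bo f)) m
  haveI : IsIso ((Scheme.Modules.restrictFunctor U.ι).map Φ) := by
    refine GrModX.isIso_of_bijective_affineCover _ (QCoh.isQCoh_restrict _ (isQCoh_sheafM M))
      (QCoh.isQCoh_restrict _ (isQCoh_sheafM R))
      (fun f : maximalIdeal R => U.ι ⁻¹ᵁ bo f.1) (fun y => ?_) (fun f => ?_) fun f => ?_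
    · obtain ⟨f, hfm, hfp⟩ : ∃ f ∈ maximalIdeal R, f ∉ y.1.asIdeal := SetLike.not_le_iff_exists.1 fun h =>
        y.2 (Set.mem_singleton_iff.2 (PrimeSpectrum.ext ((maximalIdeal.isMaximal R).eq_of_le y.1.isPrime.ne_top h).symm))
      exact ⟨⟨f, hfm⟩, hfp⟩
    · refine (IsAffineOpen.Spec_basicOpen (R := R) f.1).preimage_of_isOpenImmersion U.ι ?_
      rw [Scheme.Opens.opensRange_ι]
      exact fun x hx hxU => hx (by rw [Set.mem_singleton_iff.1 hxU]; exact f.2)
    · have himg : U.ι ''ᵁ (U.ι ⁻¹ᵁ bo f.1) = bo f.1 := by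
        rw [Scheme.Hom.image_preimage_eq_opensRange_inf, Scheme.Opens.opensRange_ι]
        exact inf_eq_right.2 fun x hx hxU => hx (by rw [Set.mem_singleton_iff.1 hxU]; exact f.2)
      show Function.Bijective (Φ.app (U.ι ''ᵁ (U.ι ⁻¹ᵁ bo f.1)))
      rw [himg]
      obtain ⟨f, hfm⟩ := f
      -- bijectivity of the localisation of `φ₀` at `f`
      have hker : ∀ m, φ₀ m = 0 → ∃ n : ℕ, f ^ n • m = 0 := fun m hm => by
        have hJ : f ∈ Ideal.radical (show Ideal R from LinearMap.ker (LinearMap.toSpanSingleton R M m)) := by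
          rw [Ideal.radical_eq_sInf]
          refine Ideal.mem_sInf.2 fun {q} hq => ?_
          by_contra hfq
          obtain ⟨s, hs, hsm⟩ := (hφ₀ q hq.2 fun h => hfq (h ▸ hfm)).1 m hm
          exact hs (hq.1 hsm)
        obtain ⟨n, hn⟩ := hJ
        exact ⟨n, hn⟩
      have hcok : ∀ c : R, ∃ (n : ℕ) (m : M), φ₀ m = f ^ n * c := fun c => by
        have hJ : f ∈ Ideal.radical (show Ideal R from Submodule.comap (LinearMap.mulRight R c) (LinearMap.range φ₀)) := by
          rw [Ideal.radical_eq_sInf]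
          refine Ideal.mem_sInf.2 fun {q} hq => ?_
          by_contra hfq
          obtain ⟨s, hs, hsc⟩ := (hφ₀ q hq.2 fun h => hfq (h ▸ hfm)).2 c
          exact hs (hq.1 hsc)
        obtain ⟨n, m, hm⟩ := hJ
        exact ⟨n, m, hm⟩
      refine ⟨(injective_iff_map_eq_zero _).2 fun z hz => ?_, fun w => ?_⟩
      · obtain ⟨n, b, hb⟩ := exists_toSecM M f (show SecM M f from z)
        have h1 : toSecM R f (φ₀ b) = 0 := by
          refine (happ f b).symm.trans ?_
          rw [show (show Γ(sheafM M, bo f) from toSecM M f b) = (algebraMap R Γ(X, bo f) (f ^ n)) • z from hb.symm,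
            Scheme.Modules.Hom.app_smul, hz, smul_zero]
        obtain ⟨k, hk⟩ := (toSecM_eq_iff R f _ 0).1 (h1.trans (map_zero _).symm)
        rw [smul_zero, ← map_smul] at hk
        obtain ⟨j, hj⟩ := hker _ hk
        haveI : IsLocalization.Away f Γ(X, bo f) :=
          inferInstanceAs (IsLocalization.Away (R := R) f Γ(X, PrimeSpectrum.basicOpen f))
        have h2 : toSecM M f (f ^ (j + k) • b) = 0 := by rw [pow_add, mul_smul, hj, map_zero]
        rw [map_smul, ← hb, ← mul_smul, ← pow_add] at h2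
        have h3 : (algebraMap R Γ(X, bo f) (f ^ (j + k + n))) • z = 0 := h2
        exact ((IsLocalization.map_units Γ(X, bo f)
          (⟨f ^ (j + k + n), _, rfl⟩ : Submonoid.powers f)).smul_eq_zero).1 h3
      · obtain ⟨n, c, hc⟩ := exists_toSecM R f (show SecM R f from w)
        obtain ⟨j, m, hm⟩ := hcok c
        haveI : IsLocalization.Away f Γ(X, bo f) :=
          inferInstanceAs (IsLocalization.Away (R := R) f Γ(X, PrimeSpectrum.basicOpen f))
        obtain ⟨v, hv⟩ := IsLocalization.map_units Γ(X, bo f) (⟨f ^ (j + n), _, rfl⟩ : Submonoid.powers f)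
        refine ⟨(↑v⁻¹ : Γ(X, bo f)) • (show Γ(sheafM M, bo f) from toSecM M f m), ?_⟩
        rw [Scheme.Modules.Hom.app_smul, happ, hm]
        show (↑v⁻¹ : Γ(X, bo f)) • (show Γ(O, bo f) from toSecM R f (f ^ j * c)) = w
        have h1 : (show Γ(O, bo f) from toSecM R f (f ^ j * c)) =
            (algebraMap R Γ(X, bo f) (f ^ (j + n))) • w := by
          rw [← smul_eq_mul, map_smul, ← hc, ← mul_smul, ← pow_add]
          rfl
        rw [h1, ← hv, ← mul_smul, Units.inv_mul, one_smul]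
  exact ⟨eM.symm ≪≫ asIso ((Scheme.Modules.restrictFunctor U.ι).map Φ) ≪≫ Scheme.Modules.restrictUnitIso U.ι⟩

end

end Groth.Agent.ParaRel
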