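import Groth.Agent.ParaRel.Vanish

/-!
# Lifting along a square zero extension
-/

set_option autoImplicit false
set_option linter.style.haveILetI false
set_option linter.unusedSectionVars false

universe u

open IsLocalRing

namespace Groth.Agent.ParaRel

variable {A : Type u} [CommRing A] [IsLocalRing A] [IsNoetherianRing A]

theorem finite_dual {M N : Type u} [AddCommGroup M] [Module A M] [Module.Finite A M] [AddCommGroup N] [Module A N]
    [Module.Finite A N] : Module.Finite A (M →ₗ[A] N) := by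
  obtain ⟨s, π, hπ⟩ := Module.Finite.exists_fin' A M
  have hinj : Function.Injective (LinearMap.lcomp A N π) := fun f g h => LinearMap.ext fun m => by
    obtain ⟨a, rfl⟩ := hπ m
    exact LinearMap.congr_fun h a
  exact Module.Finite.of_injective (LinearMap.lcomp A N π) hinj

theorem smul_quot_mk_eq_zero {M : Type u} [AddCommGroup M] [Module A M] (J : Ideal A) {a : A} (ha : a ∈ J)
    (x : M ⧸ (J • ⊤ : Submodule A M)) : a • x = 0 := by
  obtain ⟨x, rfl⟩ := Submodule.Quotient.mk_surjective _ x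
  rw [← Submodule.Quotient.mk_smul, Submodule.Quotient.mk_eq_zero]
  exact Submodule.smul_mem_smul ha Submodule.mem_top

/-- The module is trivial off the closed point modulo `I`. -/
def TrivMod (I : Ideal A) (M : Type u) [AddCommGroup M] [Module A M] : Prop :=
  ∃ φ : (M ⧸ (I • ⊤ : Submodule A M)) →ₗ[A] A ⧸ I, LB φ

/-- The key step, for a module with vanishing `H¹`. -/
theorem lift_core {I I₁ J : Ideal A} (hII₁ : I ≤ I₁) (hI₁J : I₁ ≤ J)
    (hJI : ∀ j ∈ J, ∀ a ∈ I₁, j * a ∈ I) {r : ℕ} (k : Fin r → A) (hk : ∀ i, k i ∈ I₁)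
    (hgen : ∀ a ∈ I₁, ∃ b : Fin r → A, a - ∑ i, b i * k i ∈ I)
    (hind : ∀ b : Fin r → A, ∑ i, b i * k i ∈ I → ∀ i, b i ∈ J)
    (hvJ : HVan (A := A) 2 (A ⧸ J)) (hv₁ : HVan (A := A) 0 (A ⧸ I₁))
    (D : Type u) [AddCommGroup D] [Module A D] [Module.Finite A D] (hID : ∀ a ∈ I, ∀ x : D, a • x = 0)
    (hD : LR I D) (hD1 : HVan (A := A) 1 D) (h1 : TrivMod I₁ D) (hJ : TrivMod J D) :
    ∃ (φ : (D ⧸ (I₁ • ⊤ : Submodule A D)) →ₗ[A] A ⧸ I₁) (z : D),
      φ (Submodule.Quotient.mk z) = Ideal.Quotient.mk I₁ 1 := by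
  let KD : Submodule A D := I₁ • ⊤
  let D₀ := D ⧸ (J • ⊤ : Submodule A D)
  obtain ⟨ψ, hψ⟩ := hJ
  have hD₀2 : HVan (A := A) 2 D₀ := hψ.hvan_two hvJ
  have hgk : ∀ i, (J • ⊤ : Submodule A D) ≤ LinearMap.ker ((k i) • (LinearMap.id : D →ₗ[A] D)) := fun i =>
    Submodule.smul_le.2 fun j hj x _ => by
      show k i • (j • x) = 0
      rw [← mul_smul, mul_comm]
      exact hID _ (hJI j hj (k i) (hk i)) x
  let g : Fin r → (D₀ →ₗ[A] KD) := fun i =>
    (Submodule.liftQ (J • ⊤ : Submodule A D) ((k i) • (LinearMap.id : D →ₗ[A] D)) (hgk i)).codRestrict KD fun x => by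
      obtain ⟨x, rfl⟩ := Submodule.Quotient.mk_surjective _ x
      exact Submodule.smul_mem_smul (hk i) Submodule.mem_top
  let Θ : (Fin r → D₀) →ₗ[A] KD := ∑ i, (g i).comp (LinearMap.proj i)
  have hΘ : ∀ v : Fin r → D, ((Θ fun i => Submodule.Quotient.mk (v i) : KD) : D) = ∑ i, k i • v i := fun v => by
    simp only [Θ, LinearMap.coe_sum, Finset.sum_apply, AddSubmonoidClass.coe_finsetSum, LinearMap.comp_apply,
      LinearMap.proj_apply]
    rfl
  have hΘs : Function.Surjective Θ := by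
    rintro ⟨z, hz⟩
    suffices h : ∃ w, (Θ w : D) = z by
      obtain ⟨w, hw⟩ := h; exact ⟨w, Subtype.ext hw⟩
    refine Submodule.smul_induction_on hz (fun a ha d _ => ?_) fun x y ⟨w, hw⟩ ⟨w', hw'⟩ =>
      ⟨w + w', by rw [map_add, Submodule.coe_add, hw, hw']⟩
    obtain ⟨b, hb⟩ := hgen a ha
    refine ⟨fun i => Submodule.Quotient.mk (b i • d), (hΘ fun i => b i • d).trans ?_⟩
    have h0 := hID _ hb d
    replace h0 : a • d = ∑ i, (b i * k i) • d := by rwa [sub_smul, sub_eq_zero, Finset.sum_smul] at h0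
    rw [h0]
    exact Finset.sum_congr rfl fun i _ => by rw [← mul_smul, mul_comm]
  have hker : ∀ x : LinearMap.ker Θ, ∀ p : Ideal A, p.IsPrime → p ≠ maximalIdeal A → ∃ s ∉ p, s • x = 0 := by
    intro x p hp hpm
    obtain ⟨e, s, hs, t, ht, hsx, hta⟩ := exists_local hD hp hpm
    choose v hv using fun i => Submodule.Quotient.mk_surjective _ (x.1 i)
    choose a ha using fun i => hsx (v i)
    have hzero : ∑ i, k i • v i = 0 := by
      rw [← hΘ v, show (fun i => Submodule.Quotient.mk (v i)) = x.1 from funext hv]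
      exact congrArg Subtype.val x.2
    have he : (∑ i, a i * k i) • e = 0 := by
      rw [Finset.sum_smul]
      calc ∑ i, (a i * k i) • e = ∑ i, s • (k i • v i) := Finset.sum_congr rfl fun i _ => by
            rw [smul_comm s, ha, ← mul_smul, mul_comm]
        _ = 0 := by rw [← Finset.smul_sum, hzero, smul_zero]
    have hJa : ∀ i, t * a i ∈ J := hind (fun i => t * a i) (by
      have := hta _ he
      rwa [Finset.mul_sum, Finset.sum_congr rfl fun i _ => (mul_assoc t (a i) (k i)).symm] at this)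
    refine ⟨t * s, fun hm => (hp.mem_or_mem hm).elim ht hs, Subtype.ext (funext fun i => ?_)⟩
    show (t * s) • x.1 i = 0
    rw [← hv i, ← Submodule.Quotient.mk_smul, Submodule.Quotient.mk_eq_zero, mul_smul, ha, ← mul_smul]
    exact Submodule.smul_mem_smul (hJa i) Submodule.mem_top
  have hKD2 : HVan (A := A) 2 KD :=
    hvan_right (f := (LinearMap.ker Θ).subtype) (g := Θ) (Submodule.injective_subtype _)
      (LinearMap.exact_subtype_ker_map Θ) hΘs (hvan_pi hD₀2 r) (hvan_succ_of_torsion hker 2)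
  have hD'1 : HVan (A := A) 1 (D ⧸ KD) :=
    hvan_right (f := KD.subtype) (g := KD.mkQ) (Submodule.injective_subtype _)
      (LinearMap.exact_subtype_mkQ _) (Submodule.mkQ_surjective _) hD1 hKD2
  obtain ⟨φ, hφ⟩ := h1
  obtain ⟨z', hz'⟩ := hφ.surjective hD'1 hv₁ (Ideal.Quotient.mk I₁ 1)
  obtain ⟨z, rfl⟩ := Submodule.Quotient.mk_surjective _ z'
  exact ⟨φ, z, hz'⟩

/-- The trivialisation of a module lifts from `A/I₁` to `A/I`, knowing its dual on `A/I₁` and `A/J`. -/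
theorem lift_of_dual {I I₁ J : Ideal A} (hII₁ : I ≤ I₁) (hI₁J : I₁ ≤ J)
    (hIrad : ∀ p : Ideal A, p.IsPrime → I ≤ p → J ≤ p)
    (hJI : ∀ j ∈ J, ∀ a ∈ I₁, j * a ∈ I) {r : ℕ} (k : Fin r → A) (hk : ∀ i, k i ∈ I₁)
    (hgen : ∀ a ∈ I₁, ∃ b : Fin r → A, a - ∑ i, b i * k i ∈ I)
    (hind : ∀ b : Fin r → A, ∑ i, b i * k i ∈ I → ∀ i, b i ∈ J)
    (hvJ : HVan (A := A) 2 (A ⧸ J)) (hv₁ : HVan (A := A) 0 (A ⧸ I₁))
    (hv0 : HVan (A := A) 0 (A ⧸ I)) (hv1 : HVan (A := A) 1 (A ⧸ I))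
    (M : Type u) [AddCommGroup M] [Module A M] [Module.Finite A M] (hIM : ∀ a ∈ I, ∀ x : M, a • x = 0)
    (hM : LR I M) (h1 : TrivMod I₁ (M →ₗ[A] A ⧸ I)) (hJ : TrivMod J (M →ₗ[A] A ⧸ I)) :
    ∃ φ : M →ₗ[A] A ⧸ I, LB φ := by
  let D := M →ₗ[A] A ⧸ I
  haveI : Module.Finite A D := finite_dual
  have hD : LR I D := lr_dual hM
  obtain ⟨-, hD1⟩ := hvan_dual (M := M) hv0 hv1
  obtain ⟨φ, z, hz'⟩ := lift_core hII₁ hI₁J hJI k hk hgen hind hvJ hv₁ D
    (fun a ha f => smul_dual_eq_zero I ha f) hD hD1 h1 hJ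
  refine ⟨z, fun p hp hpm => ?_⟩
  obtain ⟨e, s, t, hs, ht, hsx, hta, α, hαe, hα⟩ := exists_dual_gen hM hp hpm
  obtain ⟨c, hc⟩ := Ideal.Quotient.mk_surjective (z e)
  refine bij_at hIM hp e s hs hsx z c hc.symm (or_iff_not_imp_right.2 fun hIp hcp => ?_)
  have hIp' : I ≤ p := not_not.1 hIp
  have h2 := congrArg (fun w => φ (Submodule.Quotient.mk w)) (hα z c hc.symm)
  simp only [Submodule.Quotient.mk_smul, map_smul, hz'] at h2
  obtain ⟨b, hb⟩ := Ideal.Quotient.mk_surjective (φ (Submodule.Quotient.mk α))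
  rw [← hb] at h2
  have h3 : s * t * 1 - c * b ∈ I₁ := (Ideal.Quotient.mk_eq_mk_iff_sub_mem _ _).1 h2
  have h4 : s * t ∈ p := by
    have h5 := p.add_mem ((hI₁J.trans (hIrad p hp hIp')) h3) (p.mul_mem_right b hcp)
    simpa using h5
  exact (hp.mem_or_mem h4).elim hs ht

/-- The trivialisation lifts from `A/I₁` to `A/I` when `I₁/I` is free over `A/J`. -/
theorem lift_step {I I₁ J : Ideal A} (hII₁ : I ≤ I₁) (hI₁J : I₁ ≤ J) (hIrad : ∀ p : Ideal A, p.IsPrime → I ≤ p → J ≤ p)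
    (hJI : ∀ j ∈ J, ∀ a ∈ I₁, j * a ∈ I) {r : ℕ} (k : Fin r → A) (hk : ∀ i, k i ∈ I₁)
    (hgen : ∀ a ∈ I₁, ∃ b : Fin r → A, a - ∑ i, b i * k i ∈ I)
    (hind : ∀ b : Fin r → A, ∑ i, b i * k i ∈ I → ∀ i, b i ∈ J)
    (h1 : Triv I₁) (hJ : Triv J) (hvJ : HVan (A := A) 2 (A ⧸ J)) (hv₁ : HVan (A := A) 0 (A ⧸ I₁))
    (hv0 : HVan (A := A) 0 (A ⧸ I)) (hv1 : HVan (A := A) 1 (A ⧸ I)) : Triv I := by
  intro M _ _ _ hIM hM
  haveI : Module.Finite A (M →ₗ[A] A ⧸ I) := finite_dual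
  exact lift_of_dual hII₁ hI₁J hIrad hJI k hk hgen hind hvJ hv₁ hv0 hv1 M hIM hM
    (h1 _ (fun a ha x => smul_quot_mk_eq_zero I₁ ha x) (lr_quot hII₁ (lr_dual hM)))
    (hJ _ (fun a ha x => smul_quot_mk_eq_zero J ha x) (lr_quot (hII₁.trans hI₁J) (lr_dual hM)))

end Groth.Agent.ParaRel
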