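import Groth.Agent.ParaRel.Lift
import Groth.Agent.ParaRel.Depth

/-!
# Trivial rank one modules off the closed point descend along an ideal with free graded pieces
-/

set_option autoImplicit false
set_option linter.style.haveILetI false
set_option linter.unusedSectionVars false

universe u

open IsLocalRing

namespace Groth.Agent.ParaRel

variable {A : Type u} [CommRing A] [IsLocalRing A] [IsNoetherianRing A]

/-- The free graded piece gives generators of `J^(n+1)` modulo `J^(n+2)`. -/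
theorem exists_piece_basis (J : Ideal A) (n : ℕ)
    [Module.Free (A ⧸ J) (↥(J ^ n) ⧸ (J • (⊤ : Submodule A ↥(J ^ n))))] :
    ∃ (r : ℕ) (k : Fin r → A), (∀ i, k i ∈ J ^ n) ∧
      (∀ a ∈ J ^ n, ∃ b : Fin r → A, a - ∑ i, b i * k i ∈ J ^ (n + 1)) ∧
      ∀ b : Fin r → A, ∑ i, b i * k i ∈ J ^ (n + 1) → ∀ i, b i ∈ J := by
  classical
  let K := ↥(J ^ n) ⧸ (J • (⊤ : Submodule A ↥(J ^ n)))
  haveI : Module.Finite A ↥(J ^ n) := Module.Finite.iff_fg.2 (IsNoetherian.noetherian _)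
  haveI : Module.Finite A K := inferInstance
  haveI : Module.Finite (A ⧸ J) K := Module.Finite.of_restrictScalars_finite A (A ⧸ J) K
  let b := (Module.Free.chooseBasis (A ⧸ J) K).reindex (Fintype.equivFin _)
  choose k hk using fun i => Submodule.Quotient.mk_surjective _ (b i)
  have hmem : ∀ y : ↥(J ^ n), (Submodule.Quotient.mk y : K) = 0 ↔ (y : A) ∈ J ^ (n + 1) := fun y => by
    rw [Submodule.Quotient.mk_eq_zero, pow_succ', ← smul_eq_mul]
    constructor
    · intro hy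
      refine Submodule.smul_induction_on hy (fun j hj z _ => Submodule.smul_mem_smul hj z.2)
        fun z z' h h' => Submodule.add_mem _ h h'
    · intro hy
      have : Submodule.map (J ^ n).subtype (J • (⊤ : Submodule A ↥(J ^ n))) = J • (J ^ n) := by
        rw [Submodule.map_smul'', Submodule.map_top, Submodule.range_subtype]
      rw [← this] at hy
      obtain ⟨z, hz, hzy⟩ := hy
      rwa [Subtype.ext hzy] at hz
  have hsum : ∀ c : Fin _ → A, (Submodule.Quotient.mk (∑ i, c i • k i) : K) =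
      ∑ i, Ideal.Quotient.mk J (c i) • b i := fun c => by
    rw [← Submodule.mkQ_apply, map_sum]
    refine Finset.sum_congr rfl fun i _ => ?_
    rw [map_smul, Submodule.mkQ_apply, hk]
    exact (algebraMap_smul (A ⧸ J) (c i) (b i)).symm
  refine ⟨_, fun i => (k i).1, fun i => (k i).2, fun a ha => ?_, fun c hc i => ?_⟩
  · choose c hc using fun i => Ideal.Quotient.mk_surjective (b.repr (Submodule.Quotient.mk ⟨a, ha⟩) i)
    refine ⟨c, ?_⟩
    have h1 := (hmem (⟨a, ha⟩ - ∑ i, c i • k i)).1 (by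
      rw [Submodule.Quotient.mk_sub, hsum, Finset.sum_congr rfl fun i _ => by rw [hc i],
        b.sum_repr, sub_self])
    simpa using h1
  · have h1 := (hmem (∑ i, c i • k i)).2 (by simpa using hc)
    rw [hsum] at h1
    exact Ideal.Quotient.eq_zero_iff_mem.1 (Fintype.linearIndependent_iff.1 b.linearIndependent _ h1 i)

/-- `A/J^(n+2)` is an extension of `A/J^(n+1)` by copies of `A/J`. -/
theorem exists_piece_seq (J : Ideal A) (n : ℕ)
    [Module.Free (A ⧸ J) (↥(J ^ n) ⧸ (J • (⊤ : Submodule A ↥(J ^ n))))] :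
    ∃ (r : ℕ) (f : (Fin r → A ⧸ J) →ₗ[A] A ⧸ J ^ (n + 1)) (g : (A ⧸ J ^ (n + 1)) →ₗ[A] A ⧸ J ^ n),
      Function.Injective f ∧ Function.Exact f g ∧ Function.Surjective g := by
  obtain ⟨r, k, hk, hgen, hind⟩ := exists_piece_basis J n
  have hle : ∀ i, J ≤ LinearMap.ker (LinearMap.toSpanSingleton A (A ⧸ J ^ (n + 1)) (Ideal.Quotient.mk _ (k i))) :=
    fun i j hj => Ideal.Quotient.eq_zero_iff_mem.2 (by rw [pow_succ']; exact Ideal.mul_mem_mul hj (hk i))
  let fi : Fin r → ((A ⧸ J) →ₗ[A] A ⧸ J ^ (n + 1)) := fun i => Submodule.liftQ J _ (hle i)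
  let f : (Fin r → A ⧸ J) →ₗ[A] A ⧸ J ^ (n + 1) := ∑ i, (fi i).comp (LinearMap.proj i)
  have hf : ∀ c : Fin r → A, f (fun i => Ideal.Quotient.mk J (c i)) =
      Ideal.Quotient.mk _ (∑ i, c i * k i) := fun c => by
    simp only [f, LinearMap.coe_sum, Finset.sum_apply, LinearMap.comp_apply, LinearMap.proj_apply, map_sum]
    exact Finset.sum_congr rfl fun i _ => rfl
  refine ⟨r, f, Submodule.factor (Ideal.pow_le_pow_right (Nat.le_succ n)), ?_, fun y => ⟨fun hy => ?_, ?_⟩,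
    Submodule.factor_surjective _⟩
  · rw [injective_iff_map_eq_zero]
    intro v hv
    choose c hc using fun i => Ideal.Quotient.mk_surjective (v i)
    rw [← funext hc, hf, Ideal.Quotient.eq_zero_iff_mem] at hv
    refine funext fun i => ?_
    rw [← hc i]
    exact Ideal.Quotient.eq_zero_iff_mem.2 (hind c hv i)
  · obtain ⟨a, rfl⟩ := Ideal.Quotient.mk_surjective y
    obtain ⟨c, hc⟩ := hgen a (Ideal.Quotient.eq_zero_iff_mem.1 hy)
    exact ⟨fun i => Ideal.Quotient.mk J (c i), (hf c).trans ((Ideal.Quotient.mk_eq_mk_iff_sub_mem _ _).2 hc).symm⟩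
  · rintro ⟨v, rfl⟩
    choose c hc using fun i => Ideal.Quotient.mk_surjective (v i)
    rw [← funext hc, hf]
    exact Ideal.Quotient.eq_zero_iff_mem.2
      (show ∑ i, c i * k i ∈ J ^ n from Ideal.sum_mem _ fun i _ => Ideal.mul_mem_left _ _ (hk i))

variable {J : Ideal A} (hgr : ∀ n : ℕ, Module.Free (A ⧸ J) (↥(J ^ n) ⧸ (J • (⊤ : Submodule A ↥(J ^ n)))))
include hgr

theorem hvan_pow {i : ℕ} (h : HVan (A := A) i (A ⧸ J)) : ∀ n, HVan (A := A) i (A ⧸ J ^ n) := by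
  intro n
  induction n with
  | zero =>
    haveI : Subsingleton (A ⧸ J ^ 0) := Ideal.Quotient.subsingleton_iff.2 (by rw [pow_zero, Ideal.one_eq_top])
    exact hvan_of_subsingleton i
  | succ n ih =>
    haveI := hgr n
    obtain ⟨r, f, g, hf, hfg, hg⟩ := exists_piece_seq J n
    exact hvan_mid hf hfg hg (hvan_pi h r) ih

theorem isWeaklyRegular_pow (rs : List A) (h : RingTheory.Sequence.IsWeaklyRegular (A ⧸ J) rs) :
    ∀ n, RingTheory.Sequence.IsWeaklyRegular (A ⧸ J ^ n) rs := by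
  intro n
  induction n with
  | zero =>
    haveI : Subsingleton (A ⧸ J ^ 0) := Ideal.Quotient.subsingleton_iff.2 (by rw [pow_zero, Ideal.one_eq_top])
    exact isWeaklyRegular_of_subsingleton rs
  | succ n ih =>
    haveI := hgr n
    obtain ⟨r, f, g, hf, hfg, hg⟩ := exists_piece_seq J n
    exact isWeaklyRegular_ext rs f g hf hfg hg (isWeaklyRegular_pi rs h r) ih

theorem triv_pow (hd : ∀ i < 3, HVan (A := A) i (A ⧸ J)) (h0 : Triv J) : ∀ n, Triv (J ^ (n + 1)) := by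
  intro n
  induction n with
  | zero => rwa [zero_add, pow_one]
  | succ n ih =>
    haveI := hgr (n + 1)
    obtain ⟨r, k, hk, hgen, hind⟩ := exists_piece_basis J (n + 1)
    refine lift_step (J := J) (Ideal.pow_le_pow_right (Nat.le_succ _)) (Ideal.pow_le_self (Nat.succ_ne_zero n))
      (fun p hp hle => ?_) (fun j hj a ha => ?_) k hk hgen hind ih h0 (hd 2 (by omega))
      (hvan_pow hgr (hd 0 (by omega)) _) (hvan_pow hgr (hd 0 (by omega)) _) (hvan_pow hgr (hd 1 (by omega)) _)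
    · haveI := hp
      exact (Ideal.IsPrime.pow_le_iff (Nat.succ_ne_zero (n + 1))).1 hle
    · rw [pow_succ']; exact Ideal.mul_mem_mul hj ha

omit hgr

/-- A map into `A/J^(N+1)`, for `N` large, is congruent to a map into `A` modulo `J`. -/
theorem exists_approx (J : Ideal A) (M : Type u) [AddCommGroup M] [Module A M] [Module.Finite A M] :
    ∃ N : ℕ, ∀ g : M →ₗ[A] A ⧸ J ^ (N + 1), ∃ φ : M →ₗ[A] A,
      ∀ x, ∃ u : A, g x = Ideal.Quotient.mk _ u ∧ φ x - u ∈ J := by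
  obtain ⟨s, π, hπ⟩ := Module.Finite.exists_fin' A M
  obtain ⟨q, v, hv⟩ := Submodule.fg_iff_exists_fin_generating_family.1 (IsNoetherian.noetherian (LinearMap.ker π))
  let T : (Fin s → A) →ₗ[A] (Fin q → A) := LinearMap.pi fun k => ∑ j, v k j • LinearMap.proj j
  have hT : ∀ w k, T w k = ∑ j, v k j * w j := fun w k => by simp [T]
  obtain ⟨c, hc⟩ := Ideal.exists_pow_inf_eq_pow_smul J (LinearMap.range T)
  refine ⟨c, fun g => ?_⟩
  choose w hw using fun j => Ideal.Quotient.mk_surjective (g (π (Pi.single j 1)))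
  have hg : ∀ a : Fin s → A, g (π a) = Ideal.Quotient.mk _ (∑ j, a j * w j) := fun a => by
    have ha : a = ∑ j, a j • (Pi.single j (1 : A)) := by
      funext i; simp [Finset.sum_apply, Pi.single_apply]
    conv_lhs => rw [ha]
    rw [map_sum, map_sum, map_sum]
    refine Finset.sum_congr rfl fun j _ => ?_
    rw [map_smul, map_smul, ← hw j]
    rfl
  have hTw : T w ∈ (J ^ (c + 1) • ⊤ : Submodule A (Fin q → A)) := by
    rw [pi_eq_sum_univ' (T w)]
    refine Submodule.sum_mem _ fun k _ => Submodule.smul_mem_smul ?_ Submodule.mem_top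
    rw [hT, ← Ideal.Quotient.eq_zero_iff_mem, ← hg,
      LinearMap.mem_ker.1 (hv ▸ Submodule.subset_span ⟨k, rfl⟩ : v k ∈ LinearMap.ker π), map_zero]
  have h1 : T w ∈ J ^ ((c + 1) - c) • (J ^ c • ⊤ ⊓ LinearMap.range T) := by
    rw [← hc (c + 1) (Nat.le_succ c)]
    exact ⟨hTw, ⟨w, rfl⟩⟩
  have h2 : T w ∈ J • LinearMap.range T := by
    rw [Nat.add_sub_cancel_left, pow_one] at h1
    exact Submodule.smul_mono le_rfl inf_le_right h1
  rw [LinearMap.range_eq_map, ← Submodule.map_smul''] at h2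
  obtain ⟨w', hw'J, hw'⟩ := h2
  have hcoord : ∀ j, w' j ∈ J := fun j => by
    have := Submodule.mem_map_of_mem (f := (LinearMap.proj j : (Fin s → A) →ₗ[A] A)) hw'J
    rw [Submodule.map_smul''] at this
    exact (Submodule.smul_mono le_rfl le_top).trans (Ideal.mul_top J).le this
  let L : (Fin s → A) →ₗ[A] A := Fintype.linearCombination A (fun j => w j - w' j)
  have hL : ∀ a, L a = ∑ j, a j * (w j - w' j) := fun a => Fintype.linearCombination_apply A _ a
  have hker : LinearMap.ker π ≤ LinearMap.ker L := by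
    rw [← hv, Submodule.span_le]
    rintro _ ⟨k, rfl⟩
    show L (v k) = 0
    have h3 : T (w - w') k = 0 := by rw [map_sub, hw', sub_self]; rfl
    rw [hL]
    rw [hT] at h3
    exact h3
  refine ⟨Submodule.liftQ _ L hker ∘ₗ (π.quotKerEquivOfSurjective hπ).symm.toLinearMap, fun x => ?_⟩
  obtain ⟨a, rfl⟩ := hπ x
  refine ⟨∑ j, a j * w j, hg a, ?_⟩
  show Submodule.liftQ _ L hker ((π.quotKerEquivOfSurjective hπ).symm (π a)) - _ ∈ J
  rw [show (π.quotKerEquivOfSurjective hπ).symm (π a) = Submodule.Quotient.mk a from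
    (π.quotKerEquivOfSurjective hπ).symm_apply_eq.2 rfl, Submodule.liftQ_apply, hL, ← Finset.sum_sub_distrib]
  refine J.sum_mem fun j _ => ?_
  rw [mul_sub, sub_sub_cancel_left]
  exact J.neg_mem (J.mul_mem_left _ (hcoord j))

/-- A map to `A` which is a unit at all points of `V(J)` off the closed point. -/
theorem exists_unit_along_mod (M : Type u) [AddCommGroup M] [Module A M]
    [Module.Finite A M] (hJt : ∀ n, TrivMod (J ^ (n + 1)) M) : ∃ φ : M →ₗ[A] A,
      ∀ p : Ideal A, p.IsPrime → p ≠ maximalIdeal A → J ≤ p → ∃ x, φ x ∉ p := by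
  obtain ⟨N, hN⟩ := exists_approx J M
  obtain ⟨φn, hφn⟩ := hJt N
  obtain ⟨φ, hφ⟩ := hN (φn ∘ₗ Submodule.mkQ _)
  refine ⟨φ, fun p hp hpm hJp => ?_⟩
  obtain ⟨s, hs, x', hx'⟩ := (hφn p hp hpm).2 (Ideal.Quotient.mk _ 1)
  obtain ⟨x, rfl⟩ := Submodule.Quotient.mk_surjective _ x'
  obtain ⟨u, hu, huJ⟩ := hφ x
  refine ⟨x, fun hm => hs ?_⟩
  have h1 : s * 1 - u ∈ J ^ (N + 1) := (Ideal.Quotient.mk_eq_mk_iff_sub_mem _ _).1 (by
    have h2 : φn (Submodule.Quotient.mk x) = Ideal.Quotient.mk _ u := hu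
    rw [hx'] at h2
    exact h2)
  have h3 := p.sub_mem (p.add_mem (hJp (Ideal.pow_le_self (Nat.succ_ne_zero N) h1)) hm) (hJp huJ)
  have e : s * 1 - u + φ x - (φ x - u) = s := by ring
  rwa [e] at h3

/-- The same, from triviality of all modules. -/
theorem exists_unit_along (hJt : ∀ n, Triv (J ^ (n + 1))) (M : Type u) [AddCommGroup M] [Module A M]
    [Module.Finite A M] (hM : LR (⊥ : Ideal A) M) : ∃ φ : M →ₗ[A] A,
      ∀ p : Ideal A, p.IsPrime → p ≠ maximalIdeal A → J ≤ p → ∃ x, φ x ∉ p :=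
  exists_unit_along_mod M fun n => hJt n _ (fun _ ha x => smul_quot_mk_eq_zero _ ha x) (lr_quot bot_le hM)

/-- In depth two, an element outside all primes but the maximal one is a unit. -/
theorem isUnit_of_forall (hJm : J ≠ ⊤) (hd0 : HVan (A := A) 0 (A ⧸ J)) (hd1 : HVan (A := A) 1 (A ⧸ J)) (c : A)
    (hc : ∀ p : Ideal A, p.IsPrime → p ≠ maximalIdeal A → J ≤ p → c ∉ p) : IsUnit c := by
  by_contra hu
  let f : (A ⧸ J) →ₗ[A] A ⧸ J := c • LinearMap.id
  have hf : Function.Injective f := by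
    rw [injective_iff_map_eq_zero]
    intro y hy
    refine (hvan_zero_iff _).1 hd0 y (mem_torsion_of_forall y fun p hp hpm => ?_)
    by_cases hJp : J ≤ p
    · exact ⟨c, hc p hp hpm hJp, hy⟩
    · obtain ⟨s, hs, hsp⟩ := SetLike.not_le_iff_exists.1 hJp
      exact ⟨s, hsp, smul_quot_eq_zero J hs y⟩
  have h0 : HVan (A := A) 0 ((A ⧸ J) ⧸ LinearMap.range f) :=
    hvan_right (f := f) (g := (LinearMap.range f).mkQ) hf
      (LinearMap.exact_iff.2 (Submodule.ker_mkQ _)) (Submodule.mkQ_surjective _) hd0 hd1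
  have h1 := (hvan_zero_iff _).1 h0 (Submodule.Quotient.mk (Ideal.Quotient.mk J 1))
    (mem_torsion_of_forall _ fun p hp hpm => ?_)
  · obtain ⟨y, hy⟩ := (Submodule.Quotient.mk_eq_zero _).1 h1
    obtain ⟨b, rfl⟩ := Ideal.Quotient.mk_surjective y
    have h2 : c * b - 1 ∈ J := (Ideal.Quotient.mk_eq_mk_iff_sub_mem _ _).1 hy
    have hcm : c * b ∈ maximalIdeal A := (maximalIdeal A).mul_mem_right b ((mem_maximalIdeal c).2 hu)
    exact (maximalIdeal.isMaximal A).ne_top ((Ideal.eq_top_iff_one _).2 (by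
      have := (maximalIdeal A).sub_mem hcm (le_maximalIdeal hJm h2)
      simp at this))
  · by_cases hJp : J ≤ p
    · exact ⟨c, hc p hp hpm hJp, by
        rw [← Submodule.Quotient.mk_smul, Submodule.Quotient.mk_eq_zero]; exact ⟨_, rfl⟩⟩
    · obtain ⟨s, hs, hsp⟩ := SetLike.not_le_iff_exists.1 hJp
      exact ⟨s, hsp, by rw [← Submodule.Quotient.mk_smul, smul_quot_eq_zero J hs]; rfl⟩

/-- Units along `V(J)` for a module and its dual give a map bijective off the closed point. -/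
theorem lb_of_units (hJm : J ≠ ⊤) (hd0 : HVan (A := A) 0 (A ⧸ J)) (hd1 : HVan (A := A) 1 (A ⧸ J))
    (M : Type u) [AddCommGroup M] [Module A M] [Module.Finite A M] (hM : LR (⊥ : Ideal A) M)
    (φ₀ : M →ₗ[A] A) (hφ₀ : ∀ p : Ideal A, p.IsPrime → p ≠ maximalIdeal A → J ≤ p → ∃ x, φ₀ x ∉ p)
    (ψ₀ : (M →ₗ[A] A ⧸ (⊥ : Ideal A)) →ₗ[A] A)
    (hψ₀ : ∀ p : Ideal A, p.IsPrime → p ≠ maximalIdeal A → J ≤ p → ∃ x, ψ₀ x ∉ p) :
    ∃ φ : M →ₗ[A] A ⧸ (⊥ : Ideal A), LB φ := by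
  have hIM : ∀ a ∈ (⊥ : Ideal A), ∀ x : M, a • x = 0 := fun a ha x => by
    rw [(Submodule.mem_bot A).1 ha, zero_smul]
  let φ : M →ₗ[A] A ⧸ (⊥ : Ideal A) := Submodule.mkQ ⊥ ∘ₗ φ₀
  have key : ∀ p : Ideal A, p.IsPrime → p ≠ maximalIdeal A → ∃ (e : M) (s t : A) (α : M →ₗ[A] A ⧸ (⊥ : Ideal A)),
      s ∉ p ∧ t ∉ p ∧ (∀ x, ∃ a : A, s • x = a • e) ∧
      s * t * ψ₀ φ = φ₀ e * ψ₀ α ∧ (J ≤ p → φ₀ e ∉ p ∧ ψ₀ α ∉ p) := by
    intro p hp hpm
    obtain ⟨e, s, t, hs, ht, hsx, -, α, -, hα⟩ := exists_dual_gen hM hp hpm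
    refine ⟨e, s, t, α, hs, ht, hsx, ?_, fun hJp => ⟨fun hm => ?_, fun hm => ?_⟩⟩
    · have := congrArg ψ₀ (hα φ (φ₀ e) rfl)
      simpa [smul_eq_mul] using this
    · obtain ⟨x, hx⟩ := hφ₀ p hp hpm hJp
      obtain ⟨a, ha⟩ := hsx x
      have h1 : s * φ₀ x = a * φ₀ e := by
        simpa [smul_eq_mul] using congrArg φ₀ ha
      exact (hp.mem_or_mem (h1 ▸ p.mul_mem_left a hm)).elim hs hx
    · obtain ⟨f, hf⟩ := hψ₀ p hp hpm hJp
      obtain ⟨b, hb⟩ := Ideal.Quotient.mk_surjective (f e)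
      have h1 : s * t * ψ₀ f = b * ψ₀ α := by
        simpa [smul_eq_mul] using congrArg ψ₀ (hα f b hb.symm)
      exact (hp.mem_or_mem (h1 ▸ p.mul_mem_left b hm)).elim
        (fun h => (hp.mem_or_mem h).elim hs ht) hf
  have hunit : IsUnit (ψ₀ φ) := isUnit_of_forall hJm hd0 hd1 _ fun p hp hpm hJp hm => by
    obtain ⟨e, s, t, α, hs, ht, -, hst, h⟩ := key p hp hpm
    obtain ⟨h1, h2⟩ := h hJp
    exact (hp.mem_or_mem (hst ▸ p.mul_mem_left (s * t) hm)).elim h1 h2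
  refine ⟨φ, fun p hp hpm => ?_⟩
  obtain ⟨e, s, t, α, hs, ht, hsx, hst, -⟩ := key p hp hpm
  refine bij_at hIM hp e s hs hsx φ (φ₀ e) rfl (Or.inl fun hm => ?_)
  have h1 : s * t * ψ₀ φ ∈ p := hst ▸ p.mul_mem_right _ hm
  exact (hp.mem_or_mem h1).elim (fun h => (hp.mem_or_mem h).elim hs ht)
    (fun h => hp.ne_top (Ideal.eq_top_of_isUnit_mem _ h hunit))

/-- Descent of triviality along an adic filtration. -/
theorem triv_bot (hJm : J ≠ ⊤) (hd0 : HVan (A := A) 0 (A ⧸ J)) (hd1 : HVan (A := A) 1 (A ⧸ J))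
    (hJt : ∀ n, Triv (J ^ (n + 1))) : Triv (⊥ : Ideal A) := by
  intro M _ _ _ _ hM
  haveI : Module.Finite A (M →ₗ[A] A ⧸ (⊥ : Ideal A)) := finite_dual
  obtain ⟨φ₀, hφ₀⟩ := exists_unit_along hJt M hM
  obtain ⟨ψ₀, hψ₀⟩ := exists_unit_along hJt (M →ₗ[A] A ⧸ (⊥ : Ideal A)) (lr_dual hM)
  exact lb_of_units hJm hd0 hd1 M hM φ₀ hφ₀ ψ₀ hψ₀

include hgr in
/-- Trivial modules locally of rank one descend from `A/J`, and the depth is at least three. -/
theorem main (hJm : J ≠ ⊤) (hd : (3 : ℕ∞) ≤ LocCoh.depth A (A ⧸ J)) (h0 : Triv J) :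
    (3 : ℕ∞) ≤ LocCoh.depth A A ∧ Triv (⊥ : Ideal A) := by
  have hv : ∀ i < 3, HVan (A := A) i (A ⧸ J) := fun i hi => hvan_of_depth (n := 3) hd hi
  refine ⟨?_, triv_bot hJm (hv 0 (by omega)) (hv 1 (by omega)) (triv_pow hgr hv h0)⟩
  have hne : maximalIdeal A • (⊤ : Submodule A (A ⧸ J)) ≠ ⊤ := fun h => by
    haveI : Nontrivial (A ⧸ J) := Ideal.Quotient.nontrivial_iff.2 hJm
    exact Submodule.top_ne_ideal_smul_of_le_jacobson_annihilator (maximalIdeal_le_jacobson _) h.symm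
  obtain ⟨rs, hreg, hmem, hlen⟩ := Alg6.exists_length_ge_of_le_idealDepth hne (n := 3) hd
  have hA := isWeaklyRegular_of_pow hJm rs hmem fun n => isWeaklyRegular_pow hgr rs hreg (n + 1)
  show (3 : ℕ∞) ≤ LocCoh.idealDepth _ _
  unfold LocCoh.idealDepth
  split_ifs
  · exact le_top
  · exact le_iSup₂_of_le rs ⟨hA, hmem⟩ (by exact_mod_cast hlen)

end Groth.Agent.ParaRel
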