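import Groth.Agent.ParaRel.Geom

/-!
# Passing to quotient rings, and the graded pieces of a flat local extension
-/

set_option autoImplicit false
set_option linter.style.haveILetI false
set_option linter.unusedSectionVars false

universe u

open IsLocalRing CategoryTheory AlgebraicGeometry TensorProduct

namespace Groth.Agent.ParaRel

section Quotient

variable {A : Type u} [CommRing A] [IsLocalRing A] (J : Ideal A) [IsLocalRing (A ⧸ J)]

theorem depth_quot : LocCoh.depth A (A ⧸ J) = LocCoh.depth (A ⧸ J) (A ⧸ J) :=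
  Alg6.depth_eq_of_semilinear (Ideal.Quotient.mk J) Ideal.Quotient.mk_surjective (AddEquiv.refl _)
    fun r x => by
      obtain ⟨x, rfl⟩ := Ideal.Quotient.mk_surjective x
      rfl

theorem comap_maximalIdeal : (maximalIdeal (A ⧸ J)).comap (Ideal.Quotient.mk J) = maximalIdeal A :=
  IsLocalRing.eq_maximalIdeal (Ideal.comap_isMaximal_of_surjective _ Ideal.Quotient.mk_surjective)

theorem triv_quot [IsNoetherianRing A] (h : Triv (⊥ : Ideal (A ⧸ J))) : Triv J := by
  intro M _ _ _ hJM hM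
  have htor : Module.IsTorsionBySet A M (J : Set A) := fun x a => hJM a.1 a.2 x
  letI : Module (A ⧸ J) M := htor.module
  haveI : IsScalarTower A (A ⧸ J) M := htor.isScalarTower
  haveI : Module.Finite (A ⧸ J) M := Module.Finite.of_restrictScalars_finite A (A ⧸ J) M
  have hsm : ∀ (a : A) (x : M), (Ideal.Quotient.mk J a) • x = a • x := fun a x => htor.mk_smul a x
  obtain ⟨φ, hφ⟩ := h M (fun a ha x => by rw [(Submodule.mem_bot (A ⧸ J)).1 ha, zero_smul]) fun q hq hqm => by
    have hpm : q.comap (Ideal.Quotient.mk J) ≠ maximalIdeal A := fun he => hqm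
      (Ideal.comap_injective_of_surjective _ Ideal.Quotient.mk_surjective (he.trans (comap_maximalIdeal J).symm))
    obtain ⟨e, hsx, hta⟩ := hM _ (hq.comap _) hpm
    refine ⟨e, fun x => ?_, fun a ha => ?_⟩
    · obtain ⟨s, hs, a, ha⟩ := hsx x
      exact ⟨Ideal.Quotient.mk J s, hs, Ideal.Quotient.mk J a, by rw [hsm, hsm, ha]⟩
    · obtain ⟨a, rfl⟩ := Ideal.Quotient.mk_surjective a
      rw [hsm] at ha
      obtain ⟨s, hs, hsa⟩ := hta a ha
      exact ⟨Ideal.Quotient.mk J s, hs, (Submodule.mem_bot (A ⧸ J)).2 (by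
        rw [← map_mul]; exact Ideal.Quotient.eq_zero_iff_mem.2 hsa)⟩
  let e₀ := Submodule.quotEquivOfEqBot (⊥ : Ideal (A ⧸ J)) rfl
  refine ⟨(e₀.toLinearMap ∘ₗ φ).restrictScalars A, fun p hp hpm => ?_⟩
  by_cases hJp : J ≤ p
  · have hker : RingHom.ker (Ideal.Quotient.mk J) ≤ p := by rw [Ideal.mk_ker]; exact hJp
    haveI := hp
    have hq : (p.map (Ideal.Quotient.mk J)).IsPrime :=
      Ideal.map_isPrime_of_surjective Ideal.Quotient.mk_surjective hker
    have hcm : (p.map (Ideal.Quotient.mk J)).comap (Ideal.Quotient.mk J) = p := by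
      rw [Ideal.comap_map_of_surjective _ Ideal.Quotient.mk_surjective]
      exact sup_eq_left.2 (by rw [← RingHom.ker_eq_comap_bot]; exact hker)
    have hqm : p.map (Ideal.Quotient.mk J) ≠ maximalIdeal (A ⧸ J) := fun he =>
      hpm (by rw [← hcm, he, comap_maximalIdeal])
    obtain ⟨h1, h2⟩ := hφ _ hq hqm
    refine ⟨fun x hx => ?_, fun y => ?_⟩
    · obtain ⟨s, hs, hsx⟩ := h1 x (e₀.map_eq_zero_iff.1 hx)
      obtain ⟨s, rfl⟩ := Ideal.Quotient.mk_surjective s
      exact ⟨s, fun hm => hs (Ideal.mem_map_of_mem _ hm), by rw [← hsm]; exact hsx⟩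
    · obtain ⟨s, hs, x, hx⟩ := h2 (e₀.symm y)
      obtain ⟨s, rfl⟩ := Ideal.Quotient.mk_surjective s
      refine ⟨s, fun hm => hs (Ideal.mem_map_of_mem _ hm), x, ?_⟩
      show e₀ (φ x) = s • y
      rw [hx, map_smul, LinearEquiv.apply_symm_apply, smul_eq_mul, Algebra.smul_def]
      rfl
  · obtain ⟨r, hr, hrp⟩ := SetLike.not_le_iff_exists.1 hJp
    exact ⟨fun x _ => ⟨r, hrp, hJM r hr x⟩, fun y => ⟨r, hrp, 0, by
      rw [map_zero]; exact (smul_quot_eq_zero J hr y).symm⟩⟩

end Quotient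

/-- From the Picard group of the punctured spectrum to modules. -/
theorem triv_of_picTrivial (A : Type u) [CommRing A] [IsLocalRing A] [IsNoetherianRing A]
    (hd : (2 : ℕ∞) ≤ LocCoh.depth A A) (hpic : ParaF.PicTrivial (FEt.puncturedSpec A : Scheme.{u})) :
    Triv (⊥ : Ideal A) :=
  triv_bot_of_picTrivial (R := CommRingCat.of A) hd hpic

theorem picTrivial_of_triv (A : Type u) [CommRing A] [IsLocalRing A] [IsNoetherianRing A]
    (h : Triv (⊥ : Ideal A)) : ParaF.PicTrivial (FEt.puncturedSpec A : Scheme.{u}) :=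
  picTrivial_of_triv_bot (R := CommRingCat.of A) h

/-- Descent of parafactoriality along an ideal with free graded pieces. -/
theorem parafactorial_of_graded {A : Type u} [CommRing A] [IsLocalRing A] [IsNoetherianRing A] (J : Ideal A)
    (hJ : J ≠ ⊤) [IsLocalRing (A ⧸ J)] (hd : (3 : ℕ∞) ≤ LocCoh.depth (A ⧸ J) (A ⧸ J))
    (hgr : ∀ n : ℕ, Module.Free (A ⧸ J) (↥(J ^ n) ⧸ (J • (⊤ : Submodule A ↥(J ^ n)))))
    (h0 : ParaF.PicTrivial (FEt.puncturedSpec (A ⧸ J) : Scheme.{u})) :
    (3 : ℕ∞) ≤ LocCoh.depth A A ∧ ParaF.PicTrivial (FEt.puncturedSpec A : Scheme.{u}) := by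
  obtain ⟨h1, h2⟩ := main hgr hJ ((depth_quot J).symm ▸ hd)
    (triv_quot J (triv_of_picTrivial _ (le_trans (by norm_num) hd) h0))
  exact ⟨h1, picTrivial_of_triv A h2⟩

/-- Generators and independence give a free graded piece. -/
theorem free_of_piece {B : Type u} [CommRing B] (J : Ideal B) (n : ℕ) {r : ℕ} (k : Fin r → B)
    (hkJ : ∀ i, k i ∈ J ^ n)
    (hspan : ∀ y ∈ J ^ n, ∃ b : Fin r → B, y - ∑ i, b i * k i ∈ J ^ (n + 1))
    (hindep : ∀ b : Fin r → B, ∑ i, b i * k i ∈ J ^ (n + 1) → ∀ i, b i ∈ J) :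
    Module.Free (B ⧸ J) (↥(J ^ n) ⧸ (J • (⊤ : Submodule B ↥(J ^ n)))) := by
  let K := ↥(J ^ n) ⧸ (J • (⊤ : Submodule B ↥(J ^ n)))
  have hmk : ∀ y : ↥(J ^ n), (y : B) ∈ J ^ (n + 1) ↔ (Submodule.Quotient.mk y : K) = 0 := fun y => by
    rw [Submodule.Quotient.mk_eq_zero, pow_succ', ← smul_eq_mul]
    have : Submodule.map (J ^ n).subtype (J • (⊤ : Submodule B ↥(J ^ n))) = J • (J ^ n) := by
      rw [Submodule.map_smul'', Submodule.map_top, Submodule.range_subtype]
    rw [← this]
    exact ⟨fun ⟨z, hz, hzy⟩ => Subtype.ext hzy ▸ hz, fun h => ⟨y, h, rfl⟩⟩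
  let w : Fin r → K := fun i => Submodule.Quotient.mk ⟨k i, hkJ i⟩
  have hcomb : ∀ c : Fin r → B, ∑ i, Ideal.Quotient.mk J (c i) • w i =
      Submodule.Quotient.mk (∑ i, c i • (⟨k i, hkJ i⟩ : ↥(J ^ n))) := fun c => by
    rw [← Submodule.mkQ_apply, map_sum]
    exact Finset.sum_congr rfl fun i _ => by rw [map_smul]; exact algebraMap_smul (B ⧸ J) (c i) (w i)
  have hli : LinearIndependent (B ⧸ J) w := by
    rw [Fintype.linearIndependent_iff]
    intro c hc i
    choose c' hc' using fun i => Ideal.Quotient.mk_surjective (c i)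
    rw [show c = fun i => Ideal.Quotient.mk J (c' i) from (funext hc').symm, hcomb, ← hmk] at hc
    rw [← hc' i]
    exact Ideal.Quotient.eq_zero_iff_mem.2 (hindep c' (by simpa using hc) i)
  refine Module.Free.of_basis (Module.Basis.mk hli fun q _ => ?_)
  obtain ⟨y, rfl⟩ := Submodule.Quotient.mk_surjective _ q
  obtain ⟨b, hb⟩ := hspan y.1 y.2
  have h1 := (hmk (y - ∑ i, b i • ⟨k i, hkJ i⟩)).1 (by simpa using hb)
  rw [Submodule.Quotient.mk_sub, sub_eq_zero, ← hcomb] at h1
  rw [h1]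
  exact Submodule.sum_mem _ fun i _ => Submodule.smul_mem _ _ (Submodule.subset_span ⟨i, rfl⟩)

section Flat

variable (A B : Type u) [CommRing A] [CommRing B] [IsLocalRing A] [IsLocalRing B] [IsNoetherianRing A]
  [IsNoetherianRing B] [Algebra A B] [Module.Flat A B]

theorem tensor_quot_eq_zero_iff (I : Ideal A) {r : ℕ} (a : Fin r → A) (b : Fin r → B) :
    (∑ i, b i ⊗ₜ[A] Ideal.Quotient.mk I (a i) : B ⊗[A] (A ⧸ I)) = 0 ↔
      ∑ i, b i * algebraMap A B (a i) ∈ I.map (algebraMap A B) := by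
  rw [← (TensorProduct.tensorQuotEquivQuotSMul B I).map_eq_zero_iff, map_sum]
  have h : ∀ i, TensorProduct.tensorQuotEquivQuotSMul B I (b i ⊗ₜ[A] Ideal.Quotient.mk I (a i)) =
      Submodule.Quotient.mk (b i * algebraMap A B (a i)) := fun i => by
    rw [TensorProduct.tensorQuotEquivQuotSMul_tmul_mk]
    congr 1
    rw [Algebra.smul_def, mul_comm]
  rw [Finset.sum_congr rfl fun i _ => h i]
  rw [show (∑ i, Submodule.Quotient.mk (p := (I • ⊤ : Submodule A B)) (b i * algebraMap A B (a i))) =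
    Submodule.Quotient.mk (∑ i, b i * algebraMap A B (a i)) from
      (map_sum (Submodule.mkQ (I • ⊤ : Submodule A B)) _ _).symm, Submodule.Quotient.mk_eq_zero,
    Ideal.smul_top_eq_map]
  rfl

theorem free_piece (n : ℕ) : Module.Free (B ⧸ (maximalIdeal A).map (algebraMap A B))
    (↥(((maximalIdeal A).map (algebraMap A B)) ^ n) ⧸ ((maximalIdeal A).map (algebraMap A B) •
      (⊤ : Submodule B ↥(((maximalIdeal A).map (algebraMap A B)) ^ n)))) := by
  classical
  let m := maximalIdeal A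
  let J := m.map (algebraMap A B)
  let K := ↥(J ^ n) ⧸ (J • (⊤ : Submodule B ↥(J ^ n)))
  letI : Field (A ⧸ m) := Ideal.Quotient.field m
  haveI : Module.Free (A ⧸ m) (↥(m ^ n) ⧸ (m • (⊤ : Submodule A ↥(m ^ n)))) := inferInstance
  obtain ⟨r, k, hk, hgen, hind⟩ := exists_piece_basis m n
  have hkJ : ∀ i, algebraMap A B (k i) ∈ J ^ n := fun i => by
    simp only [J]
    rw [← Ideal.map_pow]
    exact Ideal.mem_map_of_mem _ (hk i)
  have hmk : ∀ y : ↥(J ^ n), (y : B) ∈ J ^ (n + 1) ↔ (Submodule.Quotient.mk y : K) = 0 := fun y => by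
    rw [Submodule.Quotient.mk_eq_zero, pow_succ', ← smul_eq_mul]
    have : Submodule.map (J ^ n).subtype (J • (⊤ : Submodule B ↥(J ^ n))) = J • (J ^ n) := by
      rw [Submodule.map_smul'', Submodule.map_top, Submodule.range_subtype]
    rw [← this]
    exact ⟨fun ⟨z, hz, hzy⟩ => Subtype.ext hzy ▸ hz, fun h => ⟨y, h, rfl⟩⟩
  -- generation
  have hspan : ∀ y ∈ J ^ n, ∃ b : Fin r → B, y - ∑ i, b i * algebraMap A B (k i) ∈ J ^ (n + 1) := by
    intro y hy
    have hy' : y ∈ Submodule.span B (algebraMap A B '' (m ^ n : Ideal A)) := by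
      simp only [J] at hy
      rwa [← Ideal.map_pow] at hy
    clear hy
    induction hy' using Submodule.span_induction with
    | mem y hy =>
      obtain ⟨a, ha, rfl⟩ := hy
      obtain ⟨b, hb⟩ := hgen a ha
      refine ⟨fun i => algebraMap A B (b i), ?_⟩
      simp only [J]
      rw [← Ideal.map_pow]
      have := Ideal.mem_map_of_mem (algebraMap A B) hb
      simpa [map_sub, map_sum] using this
    | zero => exact ⟨0, by simp⟩
    | add y z _ _ h h' =>
      obtain ⟨b, hb⟩ := h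
      obtain ⟨c, hc⟩ := h'
      refine ⟨b + c, ?_⟩
      have := (J ^ (n + 1)).add_mem hb hc
      simp only [Pi.add_apply, add_mul, Finset.sum_add_distrib]
      convert this using 1
      abel
    | smul c y _ h =>
      obtain ⟨b, hb⟩ := h
      refine ⟨c • b, ?_⟩
      have := (J ^ (n + 1)).mul_mem_left c hb
      simp only [Pi.smul_apply, smul_eq_mul, mul_assoc, ← Finset.mul_sum]
      rwa [← mul_sub]
  -- independence, by flatness
  have hindep : ∀ b : Fin r → B, ∑ i, b i * algebraMap A B (k i) ∈ J ^ (n + 1) → ∀ i, b i ∈ J := by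
    intro b hb
    let gi : Fin r → ((A ⧸ m) →ₗ[A] A ⧸ m ^ (n + 1)) := fun i => Submodule.liftQ m
      (LinearMap.toSpanSingleton A (A ⧸ m ^ (n + 1)) (Ideal.Quotient.mk _ (k i)))
      (fun j hj => Ideal.Quotient.eq_zero_iff_mem.2 (by rw [pow_succ']; exact Ideal.mul_mem_mul hj (hk i)))
    let g : (Fin r → A ⧸ m) →ₗ[A] A ⧸ m ^ (n + 1) := ∑ i, (gi i).comp (LinearMap.proj i)
    have hg : Function.Injective g := by
      rw [injective_iff_map_eq_zero]
      intro v hv
      choose c hc using fun i => Ideal.Quotient.mk_surjective (v i)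
      have h1 : g v = Ideal.Quotient.mk _ (∑ i, c i * k i) := by
        rw [← funext hc]
        simp only [g, LinearMap.coe_sum, Finset.sum_apply, LinearMap.comp_apply, LinearMap.proj_apply, map_sum]
        exact Finset.sum_congr rfl fun i _ => rfl
      rw [hv] at h1
      refine funext fun i => ?_
      rw [← hc i]
      exact Ideal.Quotient.eq_zero_iff_mem.2 (hind c (Ideal.Quotient.eq_zero_iff_mem.1 h1.symm) i)
    let x : B ⊗[A] (Fin r → A ⧸ m) := ∑ i, b i ⊗ₜ[A] (Pi.single i (1 : A ⧸ m) : Fin r → A ⧸ m)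
    have hgs : ∀ i, g (Pi.single i (1 : A ⧸ m)) = Ideal.Quotient.mk _ (k i) := fun i => by
      simp only [g, LinearMap.coe_sum, Finset.sum_apply, LinearMap.comp_apply, LinearMap.proj_apply]
      rw [Finset.sum_eq_single i (fun j _ hj => by rw [Pi.single_eq_of_ne hj, map_zero]) (by simp),
        Pi.single_eq_same]
      show (1 : A) • Ideal.Quotient.mk (m ^ (n + 1)) (k i) = _
      rw [one_smul]
    have hx0 : x = 0 := by
      refine (Module.Flat.lTensor_preserves_injective_linearMap (M := B) g hg) ?_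
      rw [map_zero]
      simp only [x, map_sum, LinearMap.lTensor_tmul, hgs]
      rw [tensor_quot_eq_zero_iff, Ideal.map_pow]
      exact hb
    intro i
    have h2 := congrArg (LinearMap.lTensor B (LinearMap.proj i : (Fin r → A ⧸ m) →ₗ[A] A ⧸ m)) hx0
    simp only [x, map_sum, LinearMap.lTensor_tmul, map_zero, LinearMap.proj_apply] at h2
    rw [Finset.sum_eq_single i (fun j _ hj => by rw [Pi.single_eq_of_ne hj.symm, TensorProduct.tmul_zero]) (by simp),
      Pi.single_eq_same] at h2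
    have h3 := (tensor_quot_eq_zero_iff A B m (fun _ : Fin 1 => 1) (fun _ => b i)).1 (by simpa using h2)
    simpa using h3
  exact free_of_piece J n (fun i => algebraMap A B (k i)) hkJ hspan hindep

end Flat

end Groth.Agent.ParaRel
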