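import Groth.Agent.ParaRel.Quot

/-!
# A single module trivial modulo an ideal with free graded pieces
-/

set_option autoImplicit false
set_option linter.style.haveILetI false
set_option linter.unusedSectionVars false

universe u

open IsLocalRing

namespace Groth.Agent.ParaRel

variable {A : Type u} [CommRing A] [IsLocalRing A] [IsNoetherianRing A]

/-- Passing to a larger ideal after a quotient. -/
theorem trivMod_quot {I I₁ : Ideal A} (h : I ≤ I₁) (M : Type u) [AddCommGroup M] [Module A M]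
    (hM : TrivMod I₁ M) : TrivMod I₁ (M ⧸ (I • ⊤ : Submodule A M)) := by
  obtain ⟨φ, hφ⟩ := hM
  let K : Submodule A M := I • ⊤
  let K₁ : Submodule A M := I₁ • ⊤
  let g₀ : (M ⧸ K) →ₗ[A] M ⧸ K₁ := Submodule.factor (Submodule.smul_mono h le_rfl)
  let g : ((M ⧸ K) ⧸ (I₁ • ⊤ : Submodule A (M ⧸ K))) →ₗ[A] M ⧸ K₁ :=
    Submodule.liftQ _ g₀ (Submodule.smul_le.2 fun a ha x _ => by
      show g₀ (a • x) = 0
      rw [map_smul]
      exact smul_quot_mk_eq_zero I₁ ha _)
  have hinj : ∀ z, g z = 0 → z = 0 := fun z hz => by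
    obtain ⟨y, rfl⟩ := Submodule.Quotient.mk_surjective _ z
    obtain ⟨x, rfl⟩ := Submodule.Quotient.mk_surjective _ y
    have hx : x ∈ K₁ := (Submodule.Quotient.mk_eq_zero _).1 hz
    refine Submodule.smul_induction_on hx (fun a ha m _ => ?_) fun u v hu hv => ?_
    · rw [Submodule.Quotient.mk_smul, Submodule.Quotient.mk_smul]
      exact smul_quot_mk_eq_zero I₁ ha _
    · rw [Submodule.Quotient.mk_add, Submodule.Quotient.mk_add, hu, hv, add_zero]
  refine ⟨φ ∘ₗ g, fun p hp hpm => ⟨fun z hz => ?_, fun y => ?_⟩⟩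
  · obtain ⟨s, hs, hsz⟩ := (hφ p hp hpm).1 (g z) hz
    exact ⟨s, hs, hinj _ (by rw [map_smul, hsz])⟩
  · obtain ⟨s, hs, w, hw⟩ := (hφ p hp hpm).2 y
    obtain ⟨x, rfl⟩ := Submodule.Quotient.mk_surjective _ w
    exact ⟨s, hs, Submodule.Quotient.mk (Submodule.Quotient.mk x), hw⟩

/-- A module trivial modulo `I` has a dual trivial modulo `I`. -/
theorem trivMod_dual {I' I : Ideal A} (hle : I' ≤ I) (h0 : HVan (A := A) 0 (A ⧸ I))
    (h1 : HVan (A := A) 1 (A ⧸ I)) (M : Type u) [AddCommGroup M] [Module A M] [Module.Finite A M]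
    (hM : LR I' M) (ht : TrivMod I M) : TrivMod I (M →ₗ[A] A ⧸ I') := by
  obtain ⟨φ, hφ⟩ := ht
  let K : Submodule A M := I • ⊤
  let D := M →ₗ[A] A ⧸ I'
  haveI : Module.Finite A D := finite_dual
  let Θ : (A ⧸ I) →ₗ[A] ((M ⧸ K) →ₗ[A] A ⧸ I) :=
    { toFun := fun c => (LinearMap.mul A (A ⧸ I) c) ∘ₗ φ
      map_add' := fun c d => by rw [map_add, LinearMap.add_comp]
      map_smul' := fun a c => by rw [map_smul, LinearMap.smul_comp, RingHom.id_apply] }
  have hΘ : ∀ c x, Θ c x = c * φ x := fun c x => rfl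
  have hmk : ∀ (a : A) (y : A ⧸ I), a • y = Ideal.Quotient.mk I a * y := fun a y => Algebra.smul_def a y
  have hlb : LB Θ := fun p hp hpm => by
    obtain ⟨s₁, hs₁, x, hx⟩ := (hφ p hp hpm).2 1
    refine ⟨fun c hc => ⟨s₁, hs₁, ?_⟩, fun g => ?_⟩
    · have h2 : c * φ x = 0 := by rw [← hΘ, hc]; rfl
      rw [hx, hmk, mul_one] at h2
      rw [hmk, mul_comm]
      exact h2
    · by_cases hIp : I ≤ p
      · obtain ⟨e, s, hs, t, -, hsx, -⟩ := exists_local (lr_quot hle hM) hp hpm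
        obtain ⟨b, hb⟩ := Ideal.Quotient.mk_surjective (φ e)
        obtain ⟨d, hd⟩ := Ideal.Quotient.mk_surjective (g e)
        obtain ⟨a₀, ha₀⟩ := hsx x
        have hb' : b ∉ p := fun hm => by
          have h3 : Ideal.Quotient.mk I (s * s₁) = Ideal.Quotient.mk I (a₀ * b) := by
            have h4 := congrArg φ ha₀
            rw [map_smul, map_smul, hx, hmk, hmk, hmk, ← hb, mul_one] at h4
            rw [map_mul, map_mul]
            exact h4
          have h5 := p.add_mem (hIp ((Ideal.Quotient.mk_eq_mk_iff_sub_mem _ _).1 h3)) (p.mul_mem_left a₀ hm)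
          rw [sub_add_cancel] at h5
          exact (hp.mem_or_mem h5).elim hs hs₁
        refine ⟨b * s, fun hm => (hp.mem_or_mem hm).elim hb' hs, Ideal.Quotient.mk I (d * s),
          LinearMap.ext fun z => ?_⟩
        obtain ⟨a, ha⟩ := hsx z
        have hφz : Ideal.Quotient.mk I s * φ z = Ideal.Quotient.mk I a * Ideal.Quotient.mk I b := by
          rw [← hmk, ← map_smul, ha, map_smul, hmk, hb]
        have hgz : Ideal.Quotient.mk I s * g z = Ideal.Quotient.mk I a * Ideal.Quotient.mk I d := by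
          rw [← hmk, ← map_smul, ha, map_smul, hmk, hd]
        rw [hΘ, LinearMap.smul_apply, hmk, map_mul, map_mul, mul_assoc, hφz, mul_assoc, hgz]
        ring
      · obtain ⟨r, hr, hrp⟩ := SetLike.not_le_iff_exists.1 hIp
        exact ⟨r, hrp, 0, by rw [map_zero, smul_dual_eq_zero I hr]⟩
  have hinj : Function.Injective Θ := (injective_iff_map_eq_zero _).2 fun c hc =>
    (hvan_zero_iff _).1 h0 c (mem_torsion_of_forall c fun p hp hpm => (hlb p hp hpm).1 c hc)
  let Θe := LinearEquiv.ofBijective Θ ⟨hinj, hlb.surjective h1 (hvan_dual (M := M ⧸ K) h0 h1).1⟩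
  have hkill : ∀ f : M →ₗ[A] A ⧸ I, K ≤ LinearMap.ker f := fun f => Submodule.smul_le.2 fun a ha x _ => by
    show f (a • x) = 0
    rw [map_smul]
    exact smul_quot_eq_zero I ha _
  let ρ : D →ₗ[A] ((M ⧸ K) →ₗ[A] A ⧸ I) :=
    { toFun := fun δ => Submodule.liftQ K (Submodule.factor hle ∘ₗ δ) (hkill _)
      map_add' := fun δ ε => LinearMap.ext fun z => by
        obtain ⟨x, rfl⟩ := Submodule.Quotient.mk_surjective _ z
        exact map_add (Submodule.factor hle) (δ x) (ε x)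
      map_smul' := fun a δ => LinearMap.ext fun z => by
        obtain ⟨x, rfl⟩ := Submodule.Quotient.mk_surjective _ z
        exact map_smul (Submodule.factor hle) a (δ x) }
  let ψ : (D ⧸ (I • ⊤ : Submodule A D)) →ₗ[A] A ⧸ I :=
    Submodule.liftQ _ (Θe.symm.toLinearMap ∘ₗ ρ) (Submodule.smul_le.2 fun a ha x _ => by
      show Θe.symm (ρ (a • x)) = 0
      rw [map_smul, map_smul]
      exact smul_quot_eq_zero I ha _)
  refine ⟨ψ, fun p hp hpm => ?_⟩
  obtain ⟨e, s, t, hs, ht, hsx, -, α, hαe, hα⟩ := exists_dual_gen hM hp hpm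
  obtain ⟨c, hc⟩ := Ideal.Quotient.mk_surjective (ψ (Submodule.Quotient.mk α))
  refine bij_at (fun a ha x => smul_quot_mk_eq_zero I ha x) hp (Submodule.Quotient.mk α) (s * t)
    (fun hm => (hp.mem_or_mem hm).elim hs ht) (fun x => ?_) ψ c hc.symm (or_iff_not_imp_right.2 fun hIp hcp => ?_)
  · obtain ⟨δ, rfl⟩ := Submodule.Quotient.mk_surjective _ x
    obtain ⟨b, hb⟩ := Ideal.Quotient.mk_surjective (δ e)
    exact ⟨b, by rw [← Submodule.Quotient.mk_smul, ← Submodule.Quotient.mk_smul, hα δ b hb.symm]⟩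
  · have hIp' : I ≤ p := not_not.1 hIp
    have h2 : Θ (Ideal.Quotient.mk I c) = ρ α := by
      rw [hc]
      exact Θe.apply_symm_apply (ρ α)
    have h3 := LinearMap.congr_fun h2 (Submodule.Quotient.mk e)
    obtain ⟨b, hb⟩ := Ideal.Quotient.mk_surjective (φ (Submodule.Quotient.mk e))
    have h4 : ρ α (Submodule.Quotient.mk e) = Ideal.Quotient.mk I (s * t) := by
      show Submodule.factor hle (α e) = _
      rw [hαe]
      rfl
    rw [hΘ, h4, ← hb, ← map_mul] at h3
    have h5 := p.add_mem (hIp' ((Ideal.Quotient.mk_eq_mk_iff_sub_mem _ _).1 h3.symm)) (p.mul_mem_right b hcp)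
    rw [sub_add_cancel] at h5
    exact (hp.mem_or_mem h5).elim hs ht

variable {J : Ideal A} (hgr : ∀ n : ℕ, Module.Free (A ⧸ J) (↥(J ^ n) ⧸ (J • (⊤ : Submodule A ↥(J ^ n)))))
include hgr

/-- A module trivial modulo `J` is trivial modulo all powers of `J`. -/
theorem trivMod_pow (hd : ∀ i < 3, HVan (A := A) i (A ⧸ J)) (M : Type u) [AddCommGroup M] [Module A M]
    [Module.Finite A M] (hM : LR (⊥ : Ideal A) M) (h0 : TrivMod J M) : ∀ n, TrivMod (J ^ (n + 1)) M := by
  intro n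
  induction n with
  | zero => rwa [zero_add, pow_one]
  | succ n ih =>
    haveI := hgr (n + 1)
    obtain ⟨r, k, hk, hgen, hind⟩ := exists_piece_basis J (n + 1)
    have hle : J ^ (n + 1 + 1) ≤ J ^ (n + 1) := Ideal.pow_le_pow_right (Nat.le_succ _)
    have hleJ : J ^ (n + 1) ≤ J := Ideal.pow_le_self (Nat.succ_ne_zero n)
    have hLR := lr_quot (J := J ^ (n + 1 + 1)) bot_le hM
    exact lift_of_dual (J := J) hle hleJ
      (fun p hp hle => by
        haveI := hp
        exact (Ideal.IsPrime.pow_le_iff (Nat.succ_ne_zero (n + 1))).1 hle)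
      (fun j hj a ha => by rw [pow_succ']; exact Ideal.mul_mem_mul hj ha)
      k hk hgen hind (hd 2 (by omega))
      (hvan_pow hgr (hd 0 (by omega)) _) (hvan_pow hgr (hd 0 (by omega)) _) (hvan_pow hgr (hd 1 (by omega)) _)
      _ (fun a ha x => smul_quot_mk_eq_zero _ ha x) hLR
      (trivMod_dual hle (hvan_pow hgr (hd 0 (by omega)) _) (hvan_pow hgr (hd 1 (by omega)) _) _ hLR
        (trivMod_quot hle M ih))
      (trivMod_dual (hle.trans hleJ) (hd 0 (by omega)) (hd 1 (by omega)) _ hLR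
        (trivMod_quot (hle.trans hleJ) M h0))

/-- A module trivial modulo `J` is trivial. -/
theorem exists_lb_of_trivMod (hJm : J ≠ ⊤) (hd : ∀ i < 3, HVan (A := A) i (A ⧸ J)) (M : Type u)
    [AddCommGroup M] [Module A M] [Module.Finite A M] (hM : LR (⊥ : Ideal A) M) (h0 : TrivMod J M) :
    ∃ φ : M →ₗ[A] A ⧸ (⊥ : Ideal A), LB φ := by
  have hpow := trivMod_pow hgr hd M hM h0
  haveI : Module.Finite A (M →ₗ[A] A ⧸ (⊥ : Ideal A)) := finite_dual
  obtain ⟨φ₀, hφ₀⟩ := exists_unit_along_mod M hpow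
  obtain ⟨ψ₀, hψ₀⟩ := exists_unit_along_mod (M →ₗ[A] A ⧸ (⊥ : Ideal A)) fun n =>
    trivMod_dual bot_le (hvan_pow hgr (hd 0 (by omega)) _) (hvan_pow hgr (hd 1 (by omega)) _) M hM (hpow n)
  exact lb_of_units hJm (hd 0 (by omega)) (hd 1 (by omega)) M hM φ₀ hφ₀ ψ₀ hψ₀

omit hgr

/-- The filtration by the powers of a regular element has free graded pieces. -/
theorem free_piece_principal (t : A) (hreg : IsSMulRegular A t) (n : ℕ) :
    Module.Free (A ⧸ Ideal.span {t})
      (↥(Ideal.span {t} ^ n) ⧸ (Ideal.span {t} • (⊤ : Submodule A ↥(Ideal.span {t} ^ n)))) := by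
  refine free_of_piece (Ideal.span {t}) n (r := 1) (fun _ => t ^ n)
    (fun _ => Ideal.pow_mem_pow (Ideal.mem_span_singleton_self t) n) (fun y hy => ?_) (fun b hb i => ?_)
  · rw [Ideal.span_singleton_pow] at hy
    obtain ⟨c, rfl⟩ := Ideal.mem_span_singleton'.1 hy
    exact ⟨fun _ => c, by simp⟩
  · rw [Fin.sum_univ_one, Ideal.span_singleton_pow] at hb
    obtain ⟨c, hc⟩ := Ideal.mem_span_singleton'.1 hb
    have h1 : t ^ n • (b 0) = t ^ n • (c * t) := by
      rw [smul_eq_mul, smul_eq_mul, mul_comm, ← hc, pow_succ]; ring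
    rw [Fin.eq_zero i, Ideal.mem_span_singleton']
    exact ⟨c, (hreg.pow n h1).symm⟩

end Groth.Agent.ParaRel
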