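import Groth.Agent.ParaRel.Basic
import Groth.Agent.LC.TopDim

/-!
# Vanishing of local cohomology along maps bijective off the closed point
-/

set_option autoImplicit false
set_option linter.style.haveILetI false
set_option linter.unusedSectionVars false

universe u

open IsLocalRing CategoryTheory

namespace Groth.Agent.ParaRel

variable {A : Type u} [CommRing A] [IsLocalRing A]

/-- `H^i_m(M) = 0`. -/
def HVan (i : ℕ) (M : Type u) [AddCommGroup M] [Module A M] : Prop :=
  Subsingleton ((localCohomology (maximalIdeal A) i).obj (ModuleCat.of A M))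

section Sequence

variable {X Y Z : Type u} [AddCommGroup X] [Module A X] [AddCommGroup Y] [Module A Y] [AddCommGroup Z]
  [Module A Z] {f : X →ₗ[A] Y} {g : Y →ₗ[A] Z}

theorem shortExact_mk (hf : Function.Injective f) (hfg : Function.Exact f g) (hg : Function.Surjective g) :
    (ShortComplex.mk (ModuleCat.ofHom f) (ModuleCat.ofHom g)
      (ModuleCat.hom_ext (LinearMap.ext fun x => hfg.apply_apply_eq_zero x))).ShortExact :=
  { exact := (ShortComplex.ShortExact.moduleCat_exact_iff_function_exact _).2 hfg
    mono_f := (ModuleCat.mono_iff_injective _).2 hf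
    epi_g := (ModuleCat.epi_iff_surjective _).2 hg }

theorem hvan_mid (hf : Function.Injective f) (hfg : Function.Exact f g) (hg : Function.Surjective g) {i : ℕ}
    (h1 : HVan (A := A) i X) (h3 : HVan (A := A) i Z) : HVan (A := A) i Y := by
  unfold HVan at h1 h3 ⊢
  refine subsingleton_of_forall_eq 0 fun z => ?_
  obtain ⟨w, rfl⟩ := (LC.exact₂ (maximalIdeal A) i (shortExact_mk hf hfg hg) z).1 (@Subsingleton.elim _ h3 _ _)
  rw [@Subsingleton.elim _ h1 w 0, map_zero]

theorem hvan_right (hf : Function.Injective f) (hfg : Function.Exact f g) (hg : Function.Surjective g) {i : ℕ}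
    (h2 : HVan (A := A) i Y) (h1 : HVan (A := A) (i + 1) X) : HVan (A := A) i Z := by
  unfold HVan at h1 h2 ⊢
  refine subsingleton_of_forall_eq 0 fun z => ?_
  obtain ⟨w, rfl⟩ := (LC.exact₃ (maximalIdeal A) i (shortExact_mk hf hfg hg) (i + 1) rfl z).1
    (@Subsingleton.elim _ h1 _ _)
  rw [@Subsingleton.elim _ h2 w 0, map_zero]

theorem hvan_left (hf : Function.Injective f) (hfg : Function.Exact f g) (hg : Function.Surjective g) {i : ℕ}
    (h2 : HVan (A := A) (i + 1) Y) (h3 : HVan (A := A) i Z) : HVan (A := A) (i + 1) X := by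
  unfold HVan at h2 h3 ⊢
  refine subsingleton_of_forall_eq 0 fun z => ?_
  obtain ⟨w, rfl⟩ := (LC.exact₁ (maximalIdeal A) i (shortExact_mk hf hfg hg) (i + 1) rfl z).1
    (@Subsingleton.elim _ h2 _ _)
  rw [@Subsingleton.elim _ h3 w 0, map_zero]

end Sequence

theorem hvan_zero_iff (M : Type u) [AddCommGroup M] [Module A M] :
    HVan (A := A) 0 M ↔ ∀ x : M, x ∈ DRing.torsionSub (maximalIdeal A) M → x = 0 := by
  unfold HVan
  rw [LC.subsingleton_H0_iff, Submodule.eq_bot_iff]

theorem hvan_zero_of_injective {X Y : Type u} [AddCommGroup X] [Module A X] [AddCommGroup Y] [Module A Y]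
    (f : X →ₗ[A] Y) (hf : Function.Injective f) (h : HVan (A := A) 0 Y) : HVan (A := A) 0 X := by
  rw [hvan_zero_iff] at h ⊢
  rintro x ⟨n, hn⟩
  exact hf ((h (f x) ⟨n, fun a ha => by rw [← map_smul, hn a ha, map_zero]⟩).trans (map_zero f).symm)

theorem hvan_of_subsingleton {M : Type u} [AddCommGroup M] [Module A M] [Subsingleton M] (i : ℕ) :
    HVan (A := A) i M := by
  refine subsingleton_of_forall_eq 0 fun z => ?_
  rw [← one_smul A z]
  exact LC.smul_eq_zero_of_forall (maximalIdeal A) i (M := ModuleCat.of A M) 1 (fun m => Subsingleton.elim _ _) z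

theorem hvan_pi {N : Type u} [AddCommGroup N] [Module A N] {i : ℕ} (h : HVan (A := A) i N) :
    ∀ r : ℕ, HVan (A := A) i (Fin r → N) := by
  intro r
  induction r with
  | zero => exact hvan_of_subsingleton i
  | succ r ih =>
    let g : (Fin (r + 1) → N) →ₗ[A] (Fin r → N) := LinearMap.funLeft A N Fin.succ
    let f : N →ₗ[A] (Fin (r + 1) → N) := LinearMap.single A (fun _ => N) 0
    have hf : Function.Injective f := fun x y hxy => by
      have := congrFun hxy 0
      simpa [f] using this
    refine hvan_mid (f := f) (g := g) hf (fun v => ⟨fun hv => ⟨v 0, funext fun j => ?_⟩, ?_⟩)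
      (fun w => ⟨(Fin.cons 0 w : Fin (r + 1) → N), funext fun j => by simp [g]⟩) h ih
    · induction j using Fin.cases with
      | zero => simp [f]
      | succ j =>
        have := congrFun hv j
        simp [g] at this
        simp [f, this, Fin.succ_ne_zero]
    · rintro ⟨x, rfl⟩
      exact funext fun j => by simp [f, g, Fin.succ_ne_zero]

variable [IsNoetherianRing A]

/-- An element killed near every point off the closed point is torsion. -/
theorem mem_torsion_of_forall {M : Type u} [AddCommGroup M] [Module A M] (x : M)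
    (h : ∀ p : Ideal A, p.IsPrime → p ≠ maximalIdeal A → ∃ s ∉ p, s • x = 0) :
    x ∈ DRing.torsionSub (maximalIdeal A) M := by
  let J : Ideal A := LinearMap.ker (LinearMap.toSpanSingleton A M x)
  have hm : maximalIdeal A ≤ J.radical := by
    rw [Ideal.radical_eq_sInf]
    refine le_sInf fun q hq => ?_
    by_contra hne
    obtain ⟨s, hs, hsx⟩ := h q hq.2 fun he => hne he.ge
    exact hs (hq.1 hsx)
  obtain ⟨n, hn⟩ := Ideal.exists_pow_le_of_le_radical_of_fg hm (IsNoetherian.noetherian _)
  exact ⟨n, fun a ha => hn ha⟩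

theorem hvan_succ_of_torsion {M : Type u} [AddCommGroup M] [Module A M]
    (h : ∀ x : M, ∀ p : Ideal A, p.IsPrime → p ≠ maximalIdeal A → ∃ s ∉ p, s • x = 0) (i : ℕ) :
    HVan (A := A) (i + 1) M :=
  LC.subsingleton_of_torsion (maximalIdeal A) i (ModuleCat.of A M) fun x => mem_torsion_of_forall x (h x)

variable {X Y : Type u} [AddCommGroup X] [Module A X] [AddCommGroup Y] [Module A Y] {f : X →ₗ[A] Y}

theorem LB.torsion_ker (hf : LB f) : ∀ x : LinearMap.ker f, ∀ p : Ideal A, p.IsPrime → p ≠ maximalIdeal A →
    ∃ s ∉ p, s • x = 0 := fun x p hp hpm => by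
  obtain ⟨s, hs, hsx⟩ := (hf p hp hpm).1 x.1 x.2
  exact ⟨s, hs, Subtype.ext hsx⟩

theorem LB.torsion_coker (hf : LB f) : ∀ y : Y ⧸ LinearMap.range f, ∀ p : Ideal A, p.IsPrime →
    p ≠ maximalIdeal A → ∃ s ∉ p, s • y = 0 := fun y p hp hpm => by
  obtain ⟨y, rfl⟩ := Submodule.Quotient.mk_surjective _ y
  obtain ⟨s, hs, hsy⟩ := (hf p hp hpm).2 y
  exact ⟨s, hs, by rw [← Submodule.Quotient.mk_smul, Submodule.Quotient.mk_eq_zero]; exact hsy⟩

/-- Vanishing of `H^{i}`, `i ≥ 2`, pulls back along maps bijective off the closed point. -/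
theorem LB.hvan_two (hf : LB f) (h : HVan (A := A) 2 Y) : HVan (A := A) 2 X := by
  have h1 : HVan (A := A) 2 (LinearMap.range f) :=
    hvan_left (f := (LinearMap.range f).subtype) (g := (LinearMap.range f).mkQ) (Submodule.injective_subtype _)
      (LinearMap.exact_subtype_mkQ _) (Submodule.mkQ_surjective _) h (hvan_succ_of_torsion hf.torsion_coker 0)
  exact hvan_mid (f := (LinearMap.ker f).subtype) (g := f.rangeRestrict) (Submodule.injective_subtype _)
    (fun x => ⟨fun hx => ⟨⟨x, congrArg Subtype.val hx⟩, rfl⟩, fun ⟨y, hy⟩ => Subtype.ext (hy ▸ y.2)⟩)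
    f.surjective_rangeRestrict (hvan_succ_of_torsion hf.torsion_ker 1) h1

/-- A map bijective off the closed point is surjective if `H^1` of the source and `H^0` of the target vanish. -/
theorem LB.surjective (hf : LB f) (hX : HVan (A := A) 1 X) (hY : HVan (A := A) 0 Y) : Function.Surjective f := by
  have h1 : HVan (A := A) 1 (LinearMap.range f) :=
    hvan_right (f := (LinearMap.ker f).subtype) (g := f.rangeRestrict) (Submodule.injective_subtype _)
      (fun x => ⟨fun hx => ⟨⟨x, congrArg Subtype.val hx⟩, rfl⟩, fun ⟨y, hy⟩ => Subtype.ext (hy ▸ y.2)⟩)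
      f.surjective_rangeRestrict hX (hvan_succ_of_torsion hf.torsion_ker 1)
  have h0 : HVan (A := A) 0 (Y ⧸ LinearMap.range f) :=
    hvan_right (f := (LinearMap.range f).subtype) (g := (LinearMap.range f).mkQ) (Submodule.injective_subtype _)
      (LinearMap.exact_subtype_mkQ _) (Submodule.mkQ_surjective _) hY h1
  intro y
  have := (hvan_zero_iff _).1 h0 (Submodule.Quotient.mk y) (mem_torsion_of_forall _ (hf.torsion_coker _))
  exact (Submodule.Quotient.mk_eq_zero _).1 this

/-- The dual into a module of depth two has depth two. -/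
theorem hvan_dual {M N : Type u} [AddCommGroup M] [Module A M] [Module.Finite A M] [AddCommGroup N] [Module A N]
    (h0 : HVan (A := A) 0 N) (h1 : HVan (A := A) 1 N) :
    HVan (A := A) 0 (M →ₗ[A] N) ∧ HVan (A := A) 1 (M →ₗ[A] N) := by
  obtain ⟨s, π, hπ⟩ := Module.Finite.exists_fin' A M
  obtain ⟨q, v, hv⟩ := Submodule.fg_iff_exists_fin_generating_family.1 (IsNoetherian.noetherian (LinearMap.ker π))
  let f : (M →ₗ[A] N) →ₗ[A] (Fin s → N) :=
    { toFun := fun φ j => φ (π (Pi.single j 1))
      map_add' := fun φ ψ => funext fun j => rfl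
      map_smul' := fun c φ => funext fun j => rfl }
  let T : (Fin s → N) →ₗ[A] (Fin q → N) :=
    { toFun := fun w k => Fintype.linearCombination A w (v k)
      map_add' := fun w w' => funext fun k => by
        simp [Fintype.linearCombination_apply, smul_add, Finset.sum_add_distrib]
      map_smul' := fun c w => funext fun k => by
        simp [Fintype.linearCombination_apply, Finset.smul_sum, smul_comm c] }
  have hf : Function.Injective f := fun φ ψ h => by
    refine LinearMap.ext fun m => ?_
    obtain ⟨a, rfl⟩ := hπ m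
    have : φ ∘ₗ π = ψ ∘ₗ π := LinearMap.pi_ext' fun j => LinearMap.ext_ring (congrFun h j)
    exact LinearMap.congr_fun this a
  have hex : Function.Exact f T.rangeRestrict := fun w => by
    constructor
    · intro hw
      have hw' : T w = 0 := congrArg Subtype.val hw
      have hker : LinearMap.ker π ≤ LinearMap.ker (Fintype.linearCombination A w) := by
        rw [← hv, Submodule.span_le]
        rintro _ ⟨k, rfl⟩
        exact congrFun hw' k
      let φ₀ : ((Fin s → A) ⧸ LinearMap.ker π) →ₗ[A] N := Submodule.liftQ _ (Fintype.linearCombination A w) hker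
      refine ⟨φ₀ ∘ₗ (π.quotKerEquivOfSurjective hπ).symm.toLinearMap, funext fun j => ?_⟩
      show φ₀ ((π.quotKerEquivOfSurjective hπ).symm (π (Pi.single j 1))) = w j
      rw [show (π.quotKerEquivOfSurjective hπ).symm (π (Pi.single j 1)) = Submodule.Quotient.mk (Pi.single j 1) from
        (π.quotKerEquivOfSurjective hπ).symm_apply_eq.2 rfl]
      show Fintype.linearCombination A w (Pi.single j 1) = w j
      rw [Fintype.linearCombination_apply_single, one_smul]
    · rintro ⟨φ, rfl⟩
      refine Subtype.ext (funext fun k => ?_)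
      show Fintype.linearCombination A (f φ) (v k) = 0
      have : Fintype.linearCombination A (f φ) = φ ∘ₗ π :=
        LinearMap.pi_ext' fun j => LinearMap.ext_ring (by
          show Fintype.linearCombination A (f φ) (Pi.single j 1) = φ (π (Pi.single j 1))
          rw [Fintype.linearCombination_apply_single, one_smul]; rfl)
      rw [this, LinearMap.comp_apply, LinearMap.mem_ker.1 (hv ▸ Submodule.subset_span ⟨k, rfl⟩ : v k ∈ LinearMap.ker π),
        map_zero]
  refine ⟨hvan_zero_of_injective f hf (hvan_pi h0 s), hvan_left hf hex T.surjective_rangeRestrict (hvan_pi h1 s) ?_⟩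
  exact hvan_zero_of_injective (LinearMap.range T).subtype (Submodule.injective_subtype _) (hvan_pi h0 q)

/-- Vanishing below the depth. -/
theorem hvan_of_depth {M : Type u} [AddCommGroup M] [Module A M] [Module.Finite A M] {n : ℕ}
    (h : (n : ℕ∞) ≤ LocCoh.depth A M) {i : ℕ} (hi : i < n) : HVan (A := A) i M :=
  (LC.le_idealDepth_iff_H (maximalIdeal A) M n).1 h i hi

theorem depth_of_hvan {M : Type u} [AddCommGroup M] [Module A M] [Module.Finite A M] {n : ℕ}
    (h : ∀ i < n, HVan (A := A) i M) : (n : ℕ∞) ≤ LocCoh.depth A M :=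
  (LC.le_idealDepth_iff_H (maximalIdeal A) M n).2 h

end Groth.Agent.ParaRel
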